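import Groth.Agent.Big.Basic
import Groth.Agent.Big.NumEq
import Groth.Agent.Lib.CurveVanish

/-!
# Numerically trivial twists: the invariants of a coherent module
-/

set_option autoImplicit false
set_option linter.style.haveILetI false
set_option linter.unusedSectionVars false
set_option backward.isDefEq.respectTransparency false
set_option backward.isDefEq.respectTransparency.types false
set_option maxHeartbeats 1000000
attribute [-instance] CategoryTheory.catToReflQuiver

universe u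

open CategoryTheory CategoryTheory.Limits AlgebraicGeometry TopologicalSpace Opposite
open Groth.Agent.H23.PicMul

noncomputable section

namespace Groth.Agent.NumTau

open Groth.Agent

variable (k : Type u) [Field k] {X : Scheme.{u}} [X.Over (Spec (CommRingCat.of k))]
  [IsProper (X ↘ Spec (CommRingCat.of k))]

theorem tens_iso {A B M N : X.Modules} (h : PicF.cl A * PicF.cl M = PicF.cl B * PicF.cl N) :
    Nonempty (CohB1.tensorMod A M ≅ CohB1.tensorMod B N) :=
  cl_eq_iff.1 (by rw [cl_tensor, cl_tensor, h])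

/-- The Euler characteristic depends on the class only. -/
theorem euler_cl {M N : X.Modules} (h : PicF.cl M = PicF.cl N) : Curv2.euler k X M = Curv2.euler k X N :=
  CurveCohLib.euler_congr (k := k) (cl_eq_iff.1 h).some

omit [X.Over (Spec (CommRingCat.of k))] [IsProper (X ↘ Spec (CommRingCat.of k))] in
theorem subsingleton_cl {M N : X.Modules} (h : PicF.cl M = PicF.cl N) {q : ℕ}
    (hq : Subsingleton (Coh.HH X M q)) : Subsingleton (Coh.HH X N q) :=
  QCoh.subsingleton_HH_of_iso (cl_eq_iff.1 h).some q hq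

include k in
theorem isCoh_tw {F P : X.Modules} (hF : Coh.IsCoh F) (hP : PicF.IsInvertible P) :
    Coh.IsCoh (CohB1.tensorMod F P) := by
  haveI := CurveCohLib.isNoetherian_of_proper (k := k) (X := X)
  exact AmpleVan.isCoh_tensor hF (AmpleVan.isCoh_invertible hP)

/-- Invertible modules which are numerically trivial, through nefness. -/
def NT (L : X.Modules) : Prop :=
  PicF.IsInvertible L ∧ Nakai.Nef k L ∧
    ∃ L' : X.Modules, PicF.IsInvertible L' ∧ Nakai.Nef k L' ∧ PicF.cl L * PicF.cl L' = 1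

variable {k}

theorem NT.inv {L : X.Modules} (h : NT k L) :
    ∃ L' : X.Modules, NT k L' ∧ PicF.cl L * PicF.cl L' = 1 := by
  obtain ⟨hL, hn, L', hL', hn', e⟩ := h
  exact ⟨L', ⟨hL', hn', L, hL, hn, by rwa [mul_comm]⟩, e⟩

theorem nef_tensor {L M : X.Modules} (hL : PicF.IsInvertible L) (hM : PicF.IsInvertible M)
    (hnL : Nakai.Nef k L) (hnM : Nakai.Nef k M) : Nakai.Nef k (CohB1.tensorMod L M) :=
  (Big.nef_iff k (InvX.isInvertible_tensorMod hL hM)).2 fun Y ι _ hY hd => by
    rw [Big.cdeg_add k ι hd.le hL hM]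
    exact add_nonneg ((Big.nef_iff k hL).1 hnL Y ι hY hd) ((Big.nef_iff k hM).1 hnM Y ι hY hd)

theorem NT.mul {L M : X.Modules} (h : NT k L) (g : NT k M) : NT k (CohB1.tensorMod L M) := by
  obtain ⟨hL, hn, L', hL', hn', e⟩ := h
  obtain ⟨hM, gn, M', hM', gn', e'⟩ := g
  refine ⟨InvX.isInvertible_tensorMod hL hM, nef_tensor hL hM hn gn, CohB1.tensorMod L' M',
    InvX.isInvertible_tensorMod hL' hM', nef_tensor hL' hM' hn' gn', ?_⟩
  rw [cl_tensor, cl_tensor, mul_mul_mul_comm, e, e', mul_one]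

theorem nef_one : Nakai.Nef k (Coh.structureModule X) :=
  (Big.nef_iff k CurveDeg.isInvertible_structureModule).2 fun Y ι _ _ hd => by
    have h := Big.cdeg_add k ι hd.le (CurveDeg.isInvertible_structureModule (X := X))
      (CurveDeg.isInvertible_structureModule (X := X))
    rw [Big.cdeg_congr k ι (L' := Coh.structureModule X) (by rw [cl_tensor, ← H23.PicMul.one_def, one_mul])] at h
    linarith

theorem nt_one : NT k (Coh.structureModule X) :=
  ⟨CurveDeg.isInvertible_structureModule, nef_one, _, CurveDeg.isInvertible_structureModule, nef_one,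
    by rw [← H23.PicMul.one_def, one_mul]⟩

theorem NT.pow {L : X.Modules} (h : NT k L) : ∀ n, NT k (CohB1.tensorPow L n)
  | 0 => nt_one
  | n + 1 => (NT.pow h n).mul h

/-- Numerical equivalence to zero gives `NT`. -/
theorem nt_of_numEquivZero {L : X.Modules} (hL : PicF.IsInvertible L) (h : Pic13.IsNumEquivZero k X L) :
    NT k L := by
  obtain ⟨L', hL', ⟨e⟩⟩ := H23.PicInv.exists_inverse hL
  have hcl : PicF.cl L * PicF.cl L' = 1 := by rw [← cl_tensor, cl_eq_iff.2 ⟨e⟩, H23.PicMul.one_def]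
  have h0 : ∀ (Y : Scheme.{u}) (ι : Y ⟶ X) [IsClosedImmersion ι], IsIntegral Y → topologicalKrullDim Y = 1 →
      Big.cdeg k ι L = 0 := fun Y ι _ hY hd => by
    rw [← Big.curveDeg_eq k ι hd.le hL, h Y ι hY hd]; rfl
  exact ⟨hL, (Big.nef_iff k hL).2 fun Y ι _ hY hd => (h0 Y ι hY hd).ge, L', hL',
    (Big.nef_iff k hL').2 fun Y ι _ hY hd => by
      rw [Big.cdeg_inverse k ι hd.le hL hL' hcl, h0 Y ι hY hd, neg_zero], hcl⟩

variable (k)

/-- Bounded spaces of sections. -/
def BProp (F : X.Modules) : Prop :=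
  ∃ b : ℕ, ∀ M : X.Modules, NT k M → Big.h0 k (CohB1.tensorMod F M) ≤ b

/-- Constant Euler characteristics. -/
def CProp (F : X.Modules) : Prop :=
  ∀ M : X.Modules, NT k M → Curv2.euler k X (CohB1.tensorMod F M) = Curv2.euler k X F

/-- Uniform vanishing of higher cohomology of the high twists. -/
def VProp (A F : X.Modules) : Prop :=
  ∃ j₀ : ℕ, ∀ M : X.Modules, NT k M → ∀ j, j₀ ≤ j → ∀ q,
    Subsingleton (Coh.HH X (CohB1.tensorMod F (CohB1.tensorMod M (CohB1.tensorPow A j))) (q + 1))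

/-- All three properties. -/
def Good (A F : X.Modules) : Prop := BProp k F ∧ CProp k F ∧ VProp k A F

/-- All twists are good. -/
def GoodTw (A Q : X.Modules) : Prop :=
  ∀ P : X.Modules, PicF.IsInvertible P → Good k A (CohB1.tensorMod Q P)

variable {k}

theorem h0_ses_tw {S : ShortComplex X.Modules} (hS : S.ShortExact) (h₂ : Coh.IsCoh S.X₂)
    (h₃ : Coh.IsCoh S.X₃) {P : X.Modules} (hP : PicF.IsInvertible P) :
    Big.h0 k (CohB1.tensorMod S.X₂ P) ≤ Big.h0 k (CohB1.tensorMod S.X₁ P) + Big.h0 k (CohB1.tensorMod S.X₃ P) :=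
  Big.h0_le_add k (S := S.map (AmpleVan.tw P)) (Big.shortExact_tw hS hP) (isCoh_tw k h₂ hP) (isCoh_tw k h₃ hP)

theorem euler_ses_tw {S : ShortComplex X.Modules} (hS : S.ShortExact) (h₁ : Coh.IsCoh S.X₁)
    (h₂ : Coh.IsCoh S.X₂) (h₃ : Coh.IsCoh S.X₃) {P : X.Modules} (hP : PicF.IsInvertible P) :
    Curv2.euler k X (CohB1.tensorMod S.X₂ P) =
      Curv2.euler k X (CohB1.tensorMod S.X₁ P) + Curv2.euler k X (CohB1.tensorMod S.X₃ P) :=
  CurveCohLib.euler_additive (k := k) (X := X) (S := S.map (AmpleVan.tw P)) (Big.shortExact_tw hS hP)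
    (isCoh_tw k h₁ hP) (isCoh_tw k h₂ hP) (isCoh_tw k h₃ hP)

theorem h0_mono_tw {A B : X.Modules} (f : A ⟶ B) [Mono f] (hB : Coh.IsCoh B) {P : X.Modules}
    (hP : PicF.IsInvertible P) : Big.h0 k (CohB1.tensorMod A P) ≤ Big.h0 k (CohB1.tensorMod B P) := by
  haveI : Mono ((AmpleVan.tw P).map f) := Big.mono_tw hP f
  exact Big.h0_le_of_mono k ((AmpleVan.tw P).map f) (isCoh_tw k hB hP)

theorem good_of_iso {A F G : X.Modules} (e : F ≅ G) (h : Good k A F) : Good k A G := by
  have hc := cl_eq_iff.2 ⟨e⟩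
  obtain ⟨⟨b, hb⟩, hC, j₀, hV⟩ := h
  refine ⟨⟨b, fun M hM => le_of_eq_of_le (Big.h0_congr_cl k (by rw [cl_tensor, cl_tensor, hc])) (hb M hM)⟩,
    fun M hM => ?_, j₀, fun M hM j hj q => subsingleton_cl (by simp only [cl_tensor]; rw [hc]) (hV M hM j hj q)⟩
  rw [euler_cl k (N := CohB1.tensorMod F M) (by rw [cl_tensor, cl_tensor, hc]), hC M hM]
  exact euler_cl k hc

theorem good_of_ses {A : X.Modules} (hA : PicF.IsInvertible A) {S : ShortComplex X.Modules} (hS : S.ShortExact)
    (h₁ : Coh.IsCoh S.X₁) (h₂ : Coh.IsCoh S.X₂) (h₃ : Coh.IsCoh S.X₃)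
    (g₁ : Good k A S.X₁) (g₃ : Good k A S.X₃) : Good k A S.X₂ := by
  obtain ⟨⟨b₁, hb₁⟩, hC₁, j₁, hV₁⟩ := g₁
  obtain ⟨⟨b₃, hb₃⟩, hC₃, j₃, hV₃⟩ := g₃
  refine ⟨⟨b₁ + b₃, fun M hM => (h0_ses_tw hS h₂ h₃ hM.1).trans (Nat.add_le_add (hb₁ M hM) (hb₃ M hM))⟩,
    fun M hM => ?_, max j₁ j₃, fun M hM j hj q => ?_⟩
  · rw [euler_ses_tw hS h₁ h₂ h₃ hM.1, hC₁ M hM, hC₃ M hM]
    exact (CurveCohLib.euler_additive (k := k) (X := X) hS h₁ h₂ h₃).symm
  · have hP := InvX.isInvertible_tensorMod hM.1 (InvX.isInvertible_tensorPow hA j)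
    exact QCoh.subsingleton_HH_X₂ (Big.shortExact_tw hS hP) _
      (hV₁ M hM j ((le_max_left _ _).trans hj) q) (hV₃ M hM j ((le_max_right _ _).trans hj) q)

theorem good_of_isZero {A F : X.Modules} (hA : PicF.IsInvertible A) (hF : IsZero F) : Good k A F := by
  have hz : ∀ P : X.Modules, PicF.IsInvertible P → IsZero (CohB1.tensorMod F P) := fun P hP => by
    haveI := AmpleVan.isEquivalence_tw hP
    exact (AmpleVan.tw P).map_isZero hF
  refine ⟨⟨0, fun M hM => (CurveCohLib.finrank_HH_zero_eq_zero_of_isZero (k := k) (hz M hM.1)).le⟩,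
    fun M hM => CurveCohLib.euler_congr (k := k) ((hz M hM.1).iso hF), 0,
    fun M hM j _ q => Euler.subsingleton_HH_of_isZero (hz _ (InvX.isInvertible_tensorMod hM.1
      (InvX.isInvertible_tensorPow hA j))) _⟩

end Groth.Agent.NumTau

end
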