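import Groth.Agent.HilbStrat.Main
import Groth.Agent.HilbStrat.Sigma
import Groth.Agent.FibFlatMod.Fibre
import Groth.Agent.FibFlatMod.Crit
import Groth.Agent.PnVan.Split
import Groth.Agent.AmpleX.EmbedOverApps
import Groth.Agent.S2332
import Groth.Agent.KRRReg.LamPull
import Groth.Agent.NumTau.Basic

/-!
# Bounded families of invertible modules come from finitely many invertible families
-/

set_option autoImplicit false
set_option linter.style.haveILetI false
set_option linter.unusedSectionVars false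
set_option backward.isDefEq.respectTransparency false
set_option backward.isDefEq.respectTransparency.types false
set_option maxHeartbeats 1000000
attribute [-instance] CategoryTheory.catToReflQuiver

universe u

open CategoryTheory CategoryTheory.Limits AlgebraicGeometry TopologicalSpace Opposite TensorProduct
open Groth.Agent.H23.PicMul

noncomputable section

namespace Groth.Agent.NumTau

open Groth.Agent

/-- The open set where a module is invertible. -/
def invLocus {P : Scheme.{u}} (N : P.Modules) : P.Opens :=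
  sSup {W : P.Opens | Nonempty (N.restrict W.ι ≅ Coh.structureModule (W : Scheme.{u}))}

theorem isInvertible_restrict_of_le {P : Scheme.{u}} {N : P.Modules} {V : P.Opens} (hV : V ≤ invLocus N) :
    PicF.IsInvertible (N.restrict V.ι) := fun y => by
  obtain ⟨W₀, hW, hyW⟩ := Opens.mem_sSup.1 (hV y.2)
  let W : P.Opens := W₀
  obtain ⟨φ⟩ : Nonempty (N.restrict W.ι ≅ Coh.structureModule (W : Scheme.{u})) := hW
  let U : V.toScheme.Opens := V.ι ⁻¹ᵁ W
  let m : U.toScheme ⟶ W.toScheme := IsOpenImmersion.lift W.ι (U.ι ≫ V.ι) (by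
    rintro _ ⟨z, rfl⟩
    rw [Scheme.Opens.range_ι]
    exact z.2)
  have hm : m ≫ W.ι = U.ι ≫ V.ι := IsOpenImmersion.lift_fac _ _ _
  exact ⟨U, hyW, ⟨((Scheme.Modules.restrictFunctorComp U.ι V.ι).app N).symm ≪≫
    (Scheme.Modules.restrictFunctorCongr hm.symm).app N ≪≫ (Scheme.Modules.restrictFunctorComp m W.ι).app N ≪≫
    (Scheme.Modules.restrictFunctor m).mapIso φ ≪≫ KFlatLib.restrictStructureIso m⟩⟩

theorem flat_id_iff {Z : Scheme.{u}} (M : Z.Modules) (z : Z) :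
    FlatMod.IsFlatOverAt (𝟙 Z) M z ↔ Module.Flat (Z.presheaf.stalk z) (M.presheaf.stalk z) := by
  have hid : ∀ r : Z.presheaf.stalk z, (Scheme.Hom.stalkMap (𝟙 Z) z).hom r = r := fun r =>
    congrArg (fun φ : Z.presheaf.stalk z ⟶ Z.presheaf.stalk z => φ r) (Scheme.Hom.stalkMap_id Z z)
  have hm : FlatMod.moduleStalkOver (𝟙 Z) M z =
      (inferInstance : Module (Z.presheaf.stalk z) (M.presheaf.stalk z)) :=
    Module.ext' _ _ fun r m => congrArg (fun a : Z.presheaf.stalk z => a • m) (hid r)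
  show @Module.Flat (Z.presheaf.stalk z) (M.presheaf.stalk z) _ _ (FlatMod.moduleStalkOver (𝟙 Z) M z) ↔ _
  exact iff_of_eq (congrArg (fun i => @Module.Flat (Z.presheaf.stalk z) (M.presheaf.stalk z) _ _ i) hm)

theorem lfp_of_lft {A B : Scheme.{u}} (f : A ⟶ B) [LocallyOfFiniteType f] [IsLocallyNoetherian B] :
    LocallyOfFinitePresentation f := by
  refine (HasRingHomProperty.iff_appLE (P := @LocallyOfFinitePresentation)).2 fun U V e => ?_
  letI := (f.appLE U.1 V.1 e).hom.toAlgebra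
  haveI : IsNoetherianRing Γ(B, U.1) := IsLocallyNoetherian.component_noetherian U
  exact RingHom.FinitePresentation.of_finiteType.1 (f.finiteType_appLE U.2 V.2 e)

/-- A flat module with free fibre of rank one is invertible near the fibre. -/
theorem mem_invLocus_of_slice {X P T T₀ : Scheme.{u}} [IsLocallyNoetherian P] [IsLocallyNoetherian T]
    {f : X ⟶ T₀} {pr : P ⟶ T} {σ : X ⟶ P} {t : T₀ ⟶ T} (sq : IsPullback σ f pr t)
    {F : P.Modules} (hF : Coh.IsCoh F) (hflat : FlatMod.IsFlatOver pr F) {G : X.Modules}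
    (e : (Scheme.Modules.pullback σ).obj F ≅ G) (hG : PicF.IsInvertible G) (x : X) :
    σ x ∈ invLocus F := by
  have hG1 := InvEnd.isFinLocFreeOfRank_one hG
  have hGfree : FlatMod.IsFinLocFree G := fun y => let ⟨W, hy, he⟩ := hG1 y; ⟨W, 1, hy, he⟩
  obtain ⟨bG⟩ := CurveTensor.exists_basis_stalk hG1 x
  haveI : Nontrivial (G.presheaf.stalk x) := bG.repr.toEquiv.nontrivial
  haveI := FibFlatMod.nontrivial_stalk_of_pullback σ F e x
  have hGfl : FlatMod.IsFlatOverAt (𝟙 X) ((Scheme.Modules.pullback σ).obj F) x :=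
    GrFlat5.isFlatOverAt_of_iso (𝟙 X) e.symm x ((flat_id_iff G x).2 (by
      haveI := QCoh.free_stalk_of_isFinLocFree hGfree x
      infer_instance))
  have hq : FibFlatMod.QF (𝟙 P) pr F (σ x) :=
    (FibFlatMod.qf_baseChange sq (IsPullback.of_vert_isIso ⟨by simp⟩) F hF.1 x).1
      (FibFlatMod.qf_of_flat (𝟙 X) f _ x hGfl)
  have hfl : FlatMod.IsFlatOverAt (𝟙 P ≫ pr) F (σ x) := by rw [Category.id_comp]; exact hflat _
  obtain ⟨-, hid⟩ := FibFlatMod.flat_of_qf (𝟙 P) pr F hF (σ x) hfl hq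
  have hfp : CohB1.IsFP F := (QCoh.isCoh_iff_isFP.1 hF)
  haveI : Module.Flat (P.presheaf.stalk (σ x)) (F.presheaf.stalk (σ x)) := (flat_id_iff F (σ x)).1 hid
  haveI := S1393.fp_stalk hF.1 hfp (σ x)
  haveI : Module.Free (P.presheaf.stalk (σ x)) (F.presheaf.stalk (σ x)) := Module.free_of_flat_of_isLocalRing
  obtain ⟨U, m, hxU, ⟨ψ⟩⟩ := QCoh.exists_free_nhd_of_free_stalk hfp (σ x)
  -- the rank is one
  let W : X.Opens := σ ⁻¹ᵁ U
  haveI : Nonempty W.toScheme := ⟨⟨x, hxU⟩⟩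
  have hFU : FlatMod.IsFinLocFreeOfRank m (F.restrict U.ι) := fun y =>
    ⟨⊤, trivial, ⟨(Scheme.Modules.restrictFunctor _).mapIso ψ ≪≫
      PreservesCoproduct.iso (Scheme.Modules.restrictFunctor _) _ ≪≫
      Sigma.mapIso fun _ => KFlatLib.restrictStructureIso _⟩⟩
  have h1 : FlatMod.IsFinLocFreeOfRank m ((Scheme.Modules.pullback (σ ∣_ U)).obj (F.restrict U.ι)) :=
    KRRReg.isFinLocFreeOfRank_pullback (σ ∣_ U) hFU
  have eU : (Scheme.Modules.pullback (σ ∣_ U)).obj (F.restrict U.ι) ≅ G.restrict W.ι :=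
    (Scheme.Modules.pullback (σ ∣_ U)).mapIso ((Scheme.Modules.restrictFunctorIsoPullback U.ι).app F) ≪≫
      (Scheme.Modules.pullbackComp (σ ∣_ U) U.ι).app F ≪≫
      (Scheme.Modules.pullbackCongr (morphismRestrict_ι σ U)).app F ≪≫
      ((Scheme.Modules.pullbackComp W.ι σ).app F).symm ≪≫
      (Scheme.Modules.pullback W.ι).mapIso e ≪≫ ((Scheme.Modules.restrictFunctorIsoPullback W.ι).app G).symm
  have h2 : FlatMod.IsFinLocFreeOfRank 1 (G.restrict W.ι) :=
    InvEnd.isFinLocFreeOfRank_one (H23.PicMul.isInvertible_of_iso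
      ((Scheme.Modules.restrictFunctorIsoPullback W.ι).app G).symm (PicClLib.isInvertible_pullback W.ι hG))
  obtain rfl : m = 1 := PnVan.rank_unique (PnVan.rank_of_iso eU h1) h2
  exact Opens.mem_sSup.2 ⟨U, ⟨ψ ≪≫ coproductUniqueIso _⟩, hxU⟩

variable {k : Type u} [Field k] {X : Scheme.{u}} [X.Over (Spec (CommRingCat.of k))]

theorem isPullback_slice {T : Scheme.{u}} (q : T ⟶ Spec (CommRingCat.of k)) (t : Spec (CommRingCat.of k) ⟶ T)
    (ht : t ≫ q = 𝟙 _) :
    IsPullback (Pic13.sliceAt k X q t ht) (X ↘ Spec (CommRingCat.of k))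
      (pullback.snd (X ↘ Spec (CommRingCat.of k)) q) t := by
  refine IsPullback.of_right ?_ (pullback.lift_snd _ _ _).symm.symm (IsPullback.of_hasPullback _ q)
  have e1 : Pic13.sliceAt k X q t ht ≫ pullback.fst (X ↘ Spec (CommRingCat.of k)) q = 𝟙 X := pullback.lift_fst _ _ _
  rw [e1, ht]
  exact IsPullback.of_horiz_isIso ⟨by rw [Category.id_comp, Category.comp_id]⟩

/-- A connected family of invertible modules. -/
structure Fam (k : Type u) [Field k] (X : Scheme.{u}) [X.Over (Spec (CommRingCat.of k))] where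
  T : Scheme.{u}
  q : T ⟶ Spec (CommRingCat.of k)
  conn : ConnectedSpace T
  lft : LocallyOfFiniteType q
  qc : QuasiCompact q
  M : (Pic13.prodK k X q).Modules
  inv : PicF.IsInvertible M

/-- `L` is a member of the family. -/
def Fam.Mem (𝔽 : Fam k X) (L : X.Modules) : Prop :=
  ∃ (t : Spec (CommRingCat.of k) ⟶ 𝔽.T) (ht : t ≫ 𝔽.q = 𝟙 _), Nonempty (Pic13.fibreMod k X 𝔽.q t ht 𝔽.M ≅ L)

/-- Members of a connected invertible family differ by a class algebraically equivalent to zero. -/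
theorem Fam.algEquiv (𝔽 : Fam k X) {L L' N : X.Modules} (h : 𝔽.Mem L) (h' : 𝔽.Mem L') (hN : PicF.IsInvertible N)
    (hLN : PicF.cl L' * PicF.cl N = 1) : Pic13.IsAlgEquivZero k X (CohB1.tensorMod L N) := by
  obtain ⟨t, ht, ⟨e⟩⟩ := h
  obtain ⟨t', ht', ⟨e'⟩⟩ := h'
  let p₁ : Pic13.prodK k X 𝔽.q ⟶ X := pullback.fst (X ↘ Spec (CommRingCat.of k)) 𝔽.q
  have hcl : ∀ (a : Spec (CommRingCat.of k) ⟶ 𝔽.T) (ha : a ≫ 𝔽.q = 𝟙 _),
      PicF.cl (Pic13.fibreMod k X 𝔽.q a ha (CohB1.tensorMod 𝔽.M ((Scheme.Modules.pullback p₁).obj N))) =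
        PicF.cl (Pic13.fibreMod k X 𝔽.q a ha 𝔽.M) * PicF.cl N := fun a ha => by
    show PicF.pullCl (Pic13.sliceAt k X 𝔽.q a ha) (PicF.cl (CohB1.tensorMod 𝔽.M _)) = _
    rw [cl_tensor, pullCl_mul, show PicF.cl ((Scheme.Modules.pullback p₁).obj N) = PicF.pullCl p₁ (PicF.cl N) from rfl,
      ← PicLoc.pullCl_comp, show Pic13.sliceAt k X 𝔽.q a ha ≫ p₁ = 𝟙 X from pullback.lift_fst _ _ _,
      PicClLib.pullCl_id]
    rfl
  refine ⟨𝔽.T, 𝔽.q, 𝔽.conn, 𝔽.lft, 𝔽.qc, _, InvX.isInvertible_tensorMod 𝔽.inv (PicClLib.isInvertible_pullback p₁ hN),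
    t, t', ht, ht', cl_eq_iff.1 ?_, cl_eq_iff.1 ?_⟩
  · rw [hcl, cl_eq_iff.2 ⟨e⟩, cl_tensor]
  · rw [hcl, cl_eq_iff.2 ⟨e'⟩, hLN, H23.PicMul.one_def]

/-- Restriction of a family along a map of parameter spaces. -/
theorem fibreMod_comp {T T' : Scheme.{u}} (q : T ⟶ Spec (CommRingCat.of k)) (j : T' ⟶ T)
    (F : (Pic13.prodK k X q).Modules) (t' : Spec (CommRingCat.of k) ⟶ T') (ht' : t' ≫ j ≫ q = 𝟙 _) :
    Nonempty (Pic13.fibreMod k X (j ≫ q) t' ht'
        ((Scheme.Modules.pullback (pullback.map _ _ _ _ (𝟙 X) j (𝟙 _) (by simp) (by simp) :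
          Pic13.prodK k X (j ≫ q) ⟶ Pic13.prodK k X q)).obj F) ≅
      Pic13.fibreMod k X q (t' ≫ j) (by rw [Category.assoc]; exact ht') F) := by
  refine ⟨(Scheme.Modules.pullbackComp _ _).app F ≪≫ (Scheme.Modules.pullbackCongr ?_).app F⟩
  unfold Pic13.sliceAt
  ext1 <;> simp [pullback.map]

theorem finite_connectedComponents (T : Type u) [TopologicalSpace T] [NoetherianSpace T] :
    Finite (ConnectedComponents T) := by
  haveI : Finite (irreducibleComponents T) := NoetherianSpace.finite_irreducibleComponents.to_subtype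
  refine Finite.of_surjective (fun Z : irreducibleComponents T => ConnectedComponents.mk Z.2.1.1.choose) ?_
  rintro ⟨x⟩
  refine ⟨⟨irreducibleComponent x, irreducibleComponent_mem_irreducibleComponents x⟩, ?_⟩
  refine ConnectedComponents.coe_eq_coe'.2 ?_
  exact (isIrreducible_irreducibleComponent.isPreirreducible.isPreconnected).subset_connectedComponent
    mem_irreducibleComponent (irreducibleComponent_mem_irreducibleComponents x).1.1.choose_spec

theorem exists_opens_connected (T : Type u) [TopologicalSpace T] [NoetherianSpace T] :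
    ∃ (N : ℕ) (C : Fin N → Opens T), (∀ j, ConnectedSpace (C j)) ∧ ∀ x, ∃ j, x ∈ C j := by
  haveI := finite_connectedComponents T
  haveI : T1Space (ConnectedComponents T) := by
    refine ⟨fun z => ?_⟩
    obtain ⟨z, rfl⟩ := ConnectedComponents.surjective_coe z
    rw [← ConnectedComponents.isQuotientMap_coe.isClosed_preimage, connectedComponents_preimage_singleton]
    exact isClosed_connectedComponent
  haveI : DiscreteTopology (ConnectedComponents T) := Finite.instDiscreteTopology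
  obtain ⟨N, ⟨e⟩⟩ := Finite.exists_equiv_fin (ConnectedComponents T)
  refine ⟨N, fun j => ⟨ConnectedComponents.mk ⁻¹' {e.symm j}, (isOpen_discrete _).preimage ConnectedComponents.continuous_coe⟩,
    fun j => ?_, fun x => ⟨e (ConnectedComponents.mk x), (e.symm_apply_apply _).symm⟩⟩
  obtain ⟨z, hz⟩ := ConnectedComponents.surjective_coe (e.symm j)
  show ConnectedSpace ↥(ConnectedComponents.mk ⁻¹' {e.symm j})
  rw [← hz, connectedComponents_preimage_singleton]
  exact Subtype.connectedSpace isConnected_connectedComponent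

variable [IsProper (X ↘ Spec (CommRingCat.of k))]

/-- A bounded family of invertible modules on a projective scheme lies in finitely many connected invertible families. -/
theorem exists_families {A : X.Modules} (hA : CohB1.IsAmple A) {P : X.Modules → Prop}
    (hinv : ∀ L, P L → PicF.IsInvertible L) (hP : Pic13.IsBounded k X P) :
    ∃ (N : ℕ) (𝔽 : Fin N → Fam k X), ∀ L, P L → ∃ j, (𝔽 j).Mem L := by
  classical
  haveI := CurveCohLib.isNoetherian_of_proper (k := k) (X := X)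
  obtain ⟨T, q, hq, hqc, F, hF, hmem⟩ := hP
  haveI := hq; haveI := hqc
  haveI : IsLocallyNoetherian T := LocallyOfFiniteType.isLocallyNoetherian q
  haveI : CompactSpace T := QuasiCompact.compactSpace_of_compactSpace q
  haveI : IsLocallyNoetherian (Pic13.prodK k X q) :=
    LocallyOfFiniteType.isLocallyNoetherian (pullback.snd (X ↘ Spec (CommRingCat.of k)) q)
  let pr := pullback.snd (X ↘ Spec (CommRingCat.of k)) q
  haveI : IsProper pr := inferInstanceAs (IsProper (pullback.snd (X ↘ Spec (CommRingCat.of k)) q))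
  haveI : LocallyOfFinitePresentation pr := lfp_of_lft pr
  have hL : RelAmple.IsRelAmple pr ((Scheme.Modules.pullback (pullback.fst (X ↘ Spec (CommRingCat.of k)) q)).obj A) :=
    S2332.result (X ↘ Spec (CommRingCat.of k)) q A (AmpleX.isRelAmple_of_isAmple _ hA)
  have hFP : CohB1.IsFP F := QCoh.isCoh_iff_isFP.1 hF
  obtain ⟨I, hI⟩ := HilbStrat.exists_finset_stratum (f := pr) (AmpleX.isInvertible_of_isRelAmple hL) hFP
  choose W w hw1 hw2 hw3 hwr hwu using fun Φ => HilbStrat.exists_stratum pr hL hFP Φ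
  haveI := fun Φ => hw1 Φ; haveI := fun Φ => hw2 Φ; haveI := fun Φ => hw3 Φ
  haveI hWn : ∀ Φ, IsLocallyNoetherian (W Φ) := fun Φ => LocallyOfFiniteType.isLocallyNoetherian (w Φ)
  haveI hWc : ∀ Φ, CompactSpace (W Φ) := fun Φ => QuasiCompact.compactSpace_of_compactSpace (w Φ)
  haveI hPn : ∀ Φ, IsLocallyNoetherian (Pic13.prodK k X (w Φ ≫ q)) := fun Φ =>
    LocallyOfFiniteType.isLocallyNoetherian (pullback.snd (X ↘ Spec (CommRingCat.of k)) (w Φ ≫ q))
  let m : ∀ Φ, Pic13.prodK k X (w Φ ≫ q) ⟶ Pic13.prodK k X q := fun Φ =>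
    pullback.map _ _ _ _ (𝟙 X) (w Φ) (𝟙 _) (by simp) (by simp)
  let G : ∀ Φ, (Pic13.prodK k X (w Φ ≫ q)).Modules := fun Φ => (Scheme.Modules.pullback (m Φ)).obj F
  have hGc : ∀ Φ, Coh.IsCoh (G Φ) := fun Φ => ZClosLib.isCoh_pullback _ hF
  have hGflat : ∀ Φ, FlatMod.IsFlatOver (pullback.snd (X ↘ Spec (CommRingCat.of k)) (w Φ ≫ q)) (G Φ) := fun Φ => by
    refine (HilbStrat.isFlatOver_iff_of_isPullback (f := pr) (g := w Φ) ?_ F).2
      ((hwu Φ (W Φ) (w Φ)).1 ⟨𝟙 _, Category.id_comp _⟩).1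
    refine IsPullback.of_right ?_ (pullback.lift_snd _ _ _) (IsPullback.of_hasPullback _ q)
    rw [show m Φ ≫ pullback.fst _ _ = pullback.fst _ _ from (pullback.lift_fst _ _ _).trans (Category.comp_id _)]
    exact IsPullback.of_hasPullback _ _
  haveI : ∀ Φ, IsProper (pullback.snd (X ↘ Spec (CommRingCat.of k)) (w Φ ≫ q)) := fun Φ => inferInstance
  let U : ∀ Φ, (W Φ).Opens := fun Φ =>
    ⟨(pullback.snd (X ↘ Spec (CommRingCat.of k)) (w Φ ≫ q) '' (invLocus (G Φ) : Set (Pic13.prodK k X (w Φ ≫ q)))ᶜ)ᶜ,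
      ((pullback.snd (X ↘ Spec (CommRingCat.of k)) (w Φ ≫ q)).isClosedMap _ (invLocus (G Φ)).2.isClosed_compl).isOpen_compl⟩
  haveI hUn : ∀ Φ, NoetherianSpace (U Φ).toScheme := fun Φ => by
    haveI : IsNoetherian (W Φ) := { __ := hWn Φ, __ := hWc Φ }
    exact NoetherianSpace.set (U Φ : Set (W Φ))
  choose N C hC hCc using fun Φ => exists_opens_connected (U Φ).toScheme
  have hmk : ∀ Φ (c : Fin (N Φ)), ∃ 𝔽 : Fam k X, ∀ L, (∃ (t : Spec (CommRingCat.of k) ⟶ W Φ) (ht : t ≫ w Φ ≫ q = 𝟙 _)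
      (hc : ∀ a, ∃ b : (U Φ).toScheme, b ∈ C Φ c ∧ (U Φ).ι b = t a),
      Nonempty (Pic13.fibreMod k X (w Φ ≫ q) t ht (G Φ) ≅ L)) → 𝔽.Mem L := by
    intro Φ c
    let Vc : (U Φ).toScheme.Opens := C Φ c
    let V : Scheme.{u} := Vc.toScheme
    let j : V ⟶ W Φ := Vc.ι ≫ (U Φ).ι
    haveI : CompactSpace V := by
      haveI : NoetherianSpace ↥(Vc : Set (U Φ).toScheme) := NoetherianSpace.set _
      exact inferInstanceAs (CompactSpace ↥(Vc : Set (U Φ).toScheme))
    haveI : QuasiCompact (j ≫ w Φ ≫ q) := (quasiCompact_iff_compactSpace _).2 inferInstance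
    let mj : Pic13.prodK k X (j ≫ w Φ ≫ q) ⟶ Pic13.prodK k X (w Φ ≫ q) :=
      pullback.map _ _ _ _ (𝟙 X) j (𝟙 _) (by simp) (by simp)
    have hinvV : PicF.IsInvertible ((Scheme.Modules.pullback mj).obj (G Φ)) := by
      have hr : Set.range mj ⊆ Set.range (invLocus (G Φ)).ι := by
        rintro _ ⟨z, rfl⟩
        rw [Scheme.Opens.range_ι]
        by_contra hz
        have h1 : (pullback.snd (X ↘ Spec (CommRingCat.of k)) (w Φ ≫ q)) (mj z) =
            (U Φ).ι (Vc.ι (pullback.snd (X ↘ Spec (CommRingCat.of k)) (j ≫ w Φ ≫ q) z)) := by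
          have h2 : mj ≫ pullback.snd _ _ = pullback.snd _ _ ≫ j := pullback.lift_snd _ _ _
          rw [← Scheme.Hom.comp_apply, h2]
          rfl
        exact (Vc.ι (pullback.snd (X ↘ Spec (CommRingCat.of k)) (j ≫ w Φ ≫ q) z)).2 ⟨_, hz, h1⟩
      let l := IsOpenImmersion.lift (invLocus (G Φ)).ι mj hr
      exact H23.PicMul.isInvertible_of_iso
        ((Scheme.Modules.pullback l).mapIso ((Scheme.Modules.restrictFunctorIsoPullback (invLocus (G Φ)).ι).app (G Φ)) ≪≫
          (Scheme.Modules.pullbackComp l (invLocus (G Φ)).ι).app (G Φ) ≪≫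
          (Scheme.Modules.pullbackCongr (IsOpenImmersion.lift_fac _ _ _)).app (G Φ))
        (PicClLib.isInvertible_pullback l (isInvertible_restrict_of_le le_rfl))
    haveI hconn : ConnectedSpace V := show ConnectedSpace ↥(Vc : Set (U Φ).toScheme) from hC Φ c
    haveI : IsOpenImmersion j := inferInstanceAs (IsOpenImmersion (Vc.ι ≫ (U Φ).ι))
    haveI : LocallyOfFiniteType (j ≫ w Φ ≫ q) := inferInstance
    refine ⟨⟨V, j ≫ w Φ ≫ q, hconn, inferInstance, inferInstance, _, hinvV⟩, fun L ⟨t, ht, hc, ⟨e⟩⟩ => ?_⟩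
    have hr : Set.range t ⊆ Set.range j := by
      rintro _ ⟨a, rfl⟩
      obtain ⟨b, hb, hba⟩ := hc a
      exact ⟨⟨b, hb⟩, hba⟩
    haveI : IsOpenImmersion j := inferInstanceAs (IsOpenImmersion (Vc.ι ≫ (U Φ).ι))
    let t' := IsOpenImmersion.lift j t hr
    have ht'j : t' ≫ j = t := IsOpenImmersion.lift_fac _ _ _
    have ht' : t' ≫ j ≫ w Φ ≫ q = 𝟙 _ := by rw [← Category.assoc, ht'j]; exact ht
    obtain ⟨e'⟩ := fibreMod_comp (w Φ ≫ q) j (G Φ) t' ht'
    exact ⟨t', ht', ⟨e' ≪≫ (Scheme.Modules.pullbackCongr (by simp [Pic13.sliceAt, ht'j])).app (G Φ) ≪≫ e⟩⟩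
  choose 𝔽 h𝔽 using hmk
  obtain ⟨M, ⟨e⟩⟩ := Finite.exists_equiv_fin (Σ Φ : I, Fin (N Φ.1))
  refine ⟨M, fun j => 𝔽 (e.symm j).1.1 (e.symm j).2, fun L hL' => ?_⟩
  obtain ⟨t, ht, ⟨eL⟩⟩ := hmem L hL'
  obtain ⟨Φ, hΦI, hΦ⟩ := hI (t (IsLocalRing.closedPoint k))
  have hgood : HilbStrat.Good pr F ((Scheme.Modules.pullback (pullback.fst (X ↘ Spec (CommRingCat.of k)) q)).obj A) Φ t := by
    refine ⟨HilbStrat.isFlatOver_field (K := k) (pullback.snd pr t) _, fun a n => ?_⟩
    rw [show a = IsLocalRing.closedPoint k from Subsingleton.elim _ _]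
    exact hΦ n
  obtain ⟨t', ht'⟩ := (hwu Φ _ t).2 hgood
  have hq' : t' ≫ w Φ ≫ q = 𝟙 _ := by rw [← Category.assoc, ht']; exact ht
  obtain ⟨e₁⟩ := fibreMod_comp q (w Φ) F t' hq'
  have e₂ : Pic13.fibreMod k X (w Φ ≫ q) t' hq' (G Φ) ≅ L :=
    e₁ ≪≫ (Scheme.Modules.pullbackCongr (by simp [Pic13.sliceAt, ht'])).app F ≪≫ eL
  have hsl := isPullback_slice (X := X) (w Φ ≫ q) t' hq'
  have hU : t' (IsLocalRing.closedPoint k) ∈ U Φ := by
    rintro ⟨z, hz, hzt⟩
    obtain ⟨x, hx, -⟩ := Scheme.exists_preimage_of_isPullback hsl z (IsLocalRing.closedPoint k) hzt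
    rw [← hx] at hz
    exact hz (mem_invLocus_of_slice hsl (hGc Φ) (hGflat Φ) e₂ (hinv L hL') x)
  obtain ⟨c, hc⟩ := hCc Φ ⟨_, hU⟩
  refine ⟨e ⟨⟨Φ, hΦI⟩, c⟩, ?_⟩
  show (𝔽 (e.symm (e _)).1.1 (e.symm (e _)).2).Mem L
  rw [e.symm_apply_apply]
  refine h𝔽 Φ c L ⟨t', hq', fun a => ⟨⟨_, hU⟩, hc, ?_⟩, ⟨e₂⟩⟩
  rw [show a = IsLocalRing.closedPoint k from Subsingleton.elim _ _]
  rfl

end Groth.Agent.NumTau

end
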