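import Groth.Agent.NumTau.Main
import Groth.Agent.NumTau.Fam
import Groth.Agent.Bdd.Regular
import Groth.Agent.PicGlue.ProjSpaceBC

/-!
# Numerical and τ-equivalence on a projective scheme
-/

set_option autoImplicit false
set_option linter.style.haveILetI false
set_option linter.unusedSectionVars false
set_option backward.isDefEq.respectTransparency false
set_option backward.isDefEq.respectTransparency.types false
set_option maxHeartbeats 1000000
attribute [-instance] CategoryTheory.catToReflQuiver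

universe u

open CategoryTheory CategoryTheory.Limits AlgebraicGeometry TopologicalSpace Opposite
open Groth.Agent.H23.PicMul

noncomputable section

namespace Groth.Agent.NumTau

open Groth.Agent

variable {k : Type u} [Field k] {X : Scheme.{u}} [X.Over (Spec (CommRingCat.of k))]
  [IsProper (X ↘ Spec (CommRingCat.of k))]

/-- An ample module gives a closed immersion into projective space over the field. -/
theorem exists_embedding {A : X.Modules} (hA : CohB1.IsAmple A) :
    ∃ (n : ℕ) (i : X ⟶ CohB1.ProjSpace n k), IsClosedImmersion i ∧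
      i ≫ CohB1.ProjSpace.toSpec n k = X ↘ Spec (CommRingCat.of k) := by
  obtain ⟨n, i, hi, hif⟩ := AmpleX.exists_closedImmersion_projSpaceOver (X ↘ Spec (CommRingCat.of k)) hA
  obtain ⟨e, he⟩ := PicGlue.exists_projSpace_iso n k
  haveI := hi
  refine ⟨n, i ≫ e.inv, inferInstance, ?_⟩
  rw [← he, Category.assoc, Iso.inv_hom_id_assoc, hif]

/-- On a projective scheme the Euler characteristic only depends on the numerical class. -/
theorem euler_eq [Infinite k] {A : X.Modules} (hA : CohB1.IsAmple A) {F : X.Modules} (hF : Coh.IsCoh F)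
    {L : X.Modules} (hL : NT k L) :
    Curv2.euler k X (CohB1.tensorMod F L) = Curv2.euler k X F := by
  obtain ⟨n, i, hi, hif⟩ := exists_embedding (k := k) hA
  haveI := hi
  exact (good i hif hF).2.1 L hL

/-- Numerically trivial classes form a bounded family. -/
theorem isBounded_nt [Infinite k] {A : X.Modules} (hA : CohB1.IsAmple A) :
    Pic13.IsBounded k X (fun L => NT k L) := by
  haveI := CurveCohLib.isNoetherian_of_proper (k := k) (X := X)
  obtain ⟨n, i, hi, hif⟩ := exists_embedding (k := k) hA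
  haveI := hi
  have hO := QCoh.isCoh_structureModule' (X := X)
  obtain ⟨-, -, j₀, hV⟩ := good i hif hO
  obtain ⟨φ, hφ⟩ := TauNum.exists_hilbert_poly (k := k) (n := n) i hO
  refine Bdd.isBounded_mono (Bdd.isBounded_regular i hif ((j₀ + n + 1 : ℕ) : ℤ) φ) fun L hL => ?_
  have hLc : Coh.IsCoh L := AmpleVan.isCoh_invertible hL.1
  refine ⟨L, ⟨hLc, fun q hq => ?_, fun d => ?_⟩, ⟨Iso.refl _⟩⟩
  · rcases le_or_gt q n with hqn | hqn
    · obtain ⟨p, rfl⟩ : ∃ p, q = p + 1 := ⟨q - 1, by omega⟩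
      have h := hV L hL (j₀ + n + 1 - (p + 1)) (by omega) p
      refine subsingleton_cl ?_ h
      unfold Pic13.twistOn
      rw [cl_tensor, cl_tensor, cl_tensor, cl_tensorPow, ← H23.PicMul.one_def, one_mul,
        show (((j₀ + n + 1 : ℕ) : ℤ) - ((p + 1 : ℕ) : ℤ)) = ((j₀ + n + 1 - (p + 1) : ℕ) : ℤ) by omega]
      exact congrArg (PicF.cl L * ·) (cl_O1_pow i _).symm
    · exact TauNum.subsingleton_HH_high i hLc _ q hqn
  · rw [← hφ d, TauNum.eulerCharLE_twistOn i hLc, TauNum.eulerCharLE_twistOn i hO]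
    have hP := TauNum.isCoh_twistOn i hO d
    refine congrArg Int.cast ((euler_cl k ?_).trans ((good i hif hP).2.1 L hL))
    unfold Pic13.twistOn
    simp only [cl_tensor, ← H23.PicMul.one_def, one_mul]
    rw [mul_comm]

/-- Finitely many families contain the numerically trivial classes. -/
theorem exists_families_nt [Infinite k] {A : X.Modules} (hA : CohB1.IsAmple A) :
    ∃ (N : ℕ) (𝔽 : Fin N → Fam k X), ∀ L, NT k L → ∃ j, (𝔽 j).Mem L :=
  exists_families hA (fun _ h => h.1) (isBounded_nt hA)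

theorem isAlgEquivZero_congr {L L' : X.Modules} (h : PicF.cl L = PicF.cl L') (ha : Pic13.IsAlgEquivZero k X L) :
    Pic13.IsAlgEquivZero k X L' := by
  obtain ⟨T, q, h1, h2, h3, M, hM, t, t₀, ht, ht₀, ⟨e⟩, e₀⟩ := ha
  exact ⟨T, q, h1, h2, h3, M, hM, t, t₀, ht, ht₀, ⟨e ≪≫ (cl_eq_iff.1 h).some⟩, e₀⟩

/-- On a projective scheme numerically trivial classes are τ-equivalent to zero. -/
theorem isTauEquivZero_of_nt [Infinite k] {A : X.Modules} (hA : CohB1.IsAmple A) {L : X.Modules} (hL : NT k L) :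
    Pic13.IsTauEquivZero k X L := by
  obtain ⟨N, 𝔽, h𝔽⟩ := exists_families_nt (k := k) hA
  choose j hj using fun m : ℕ => h𝔽 _ (hL.pow m)
  obtain ⟨a, b, hab, hjab⟩ : ∃ a b, a < b ∧ j a = j b := by
    obtain ⟨a, b, hne, hab⟩ := Finite.exists_ne_map_eq_of_infinite j
    rcases Nat.lt_or_ge a b with h | h
    · exact ⟨a, b, h, hab⟩
    · exact ⟨b, a, lt_of_le_of_ne h (Ne.symm hne), hab.symm⟩
  obtain ⟨L', hL', hLL'⟩ := hL.inv
  have hpow : PicF.cl (CohB1.tensorPow L a) * PicF.cl (CohB1.tensorPow L' a) = 1 := by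
    rw [cl_tensorPow, cl_tensorPow, ← mul_pow, hLL', one_pow]
  refine ⟨b - a, by omega, isAlgEquivZero_congr ?_
    ((𝔽 (j b)).algEquiv (hj b) (hjab ▸ hj a) (InvX.isInvertible_tensorPow hL'.1 a) hpow)⟩
  rw [cl_tensor, cl_tensorPow L (b - a), cl_tensorPow L b]
  conv_lhs => rw [show b = (b - a) + a by omega, pow_add]
  rw [mul_assoc, ← cl_tensorPow L a, hpow, mul_one]

/-- The numerical classes modulo algebraic equivalence form a finite set. -/
theorem exists_finite_reps [Infinite k] {A : X.Modules} (hA : CohB1.IsAmple A) :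
    ∃ (q : ℕ) (M : Fin q → X.Modules), (∀ j, NT k (M j)) ∧ ∀ L, NT k L →
      ∃ (j : Fin q) (N : X.Modules), NT k N ∧ Pic13.IsAlgEquivZero k X N ∧ Nonempty (L ≅ CohB1.tensorMod (M j) N) := by
  classical
  obtain ⟨N, 𝔽, h𝔽⟩ := exists_families_nt (k := k) hA
  let S := {j : Fin N // ∃ L, NT k L ∧ (𝔽 j).Mem L}
  obtain ⟨q, ⟨e⟩⟩ := Finite.exists_equiv_fin S
  choose M hM hMm using fun s : S => s.2
  refine ⟨q, fun l => M (e.symm l), fun l => hM _, fun L hL => ?_⟩
  obtain ⟨j, hj⟩ := h𝔽 L hL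
  let s : S := ⟨j, L, hL, hj⟩
  obtain ⟨M', hM', hMM'⟩ := (hM s).inv
  refine ⟨e s, CohB1.tensorMod L M', hL.mul hM', (𝔽 j).algEquiv hj (hMm s) hM'.1 hMM', cl_eq_iff.1 ?_⟩
  show PicF.cl L = PicF.cl (CohB1.tensorMod (M (e.symm (e s))) (CohB1.tensorMod L M'))
  rw [e.symm_apply_apply, cl_tensor, cl_tensor, mul_comm (PicF.cl L), ← mul_assoc, hMM', one_mul]

theorem isInvertible_of_cl_mul_eq_one {L L' : X.Modules} (hL : PicF.IsInvertible L)
    (h : PicF.cl L * PicF.cl L' = 1) : PicF.IsInvertible L' := by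
  obtain ⟨D, hD, he⟩ := H23.PicInv.exists_inverse hL
  have h2 : PicF.cl L * PicF.cl D = 1 := cl_eq_iff.2 he
  obtain ⟨i⟩ := cl_eq_iff.1 ((H23.PicMul.isUnit_cl hL).mul_left_cancel (h2.trans h.symm))
  exact H23.PicMul.isInvertible_of_iso i hD

theorem cl_mul_one_of_iso {L L' : X.Modules} (h : Nonempty (CohB1.tensorMod L L' ≅ Coh.structureModule X)) :
    PicF.cl L * PicF.cl L' = 1 := cl_eq_iff.2 h

/-- Bounded ampleness of all powers on both sides gives numerical triviality. -/
theorem nt_of_twists_ample {H L L' : X.Modules} (hH : PicF.IsInvertible H) (hL : PicF.IsInvertible L)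
    (hLL' : PicF.cl L * PicF.cl L' = 1)
    (h : ∀ m : ℕ, CohB1.IsAmple (CohB1.tensorMod (CohB1.tensorPow L m) H) ∧
      CohB1.IsAmple (CohB1.tensorMod (CohB1.tensorPow L' m) H)) : NT k L := by
  have hL' := isInvertible_of_cl_mul_eq_one (X := X) hL hLL'
  exact ⟨hL, Nakai.nef_of_isAmple k hL hH fun ν _ => (h ν).1, L', hL',
    Nakai.nef_of_isAmple k hL' hH fun ν _ => (h ν).2, hLL'⟩

end Groth.Agent.NumTau

end
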