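import Groth.Agent.AVRosati.DivPos
import Groth.Agent.Big.Positive
import Groth.Agent.Big.NumInv
import Groth.Agent.NumTau.Basic
import Groth.Agent.Nakai.Birat3
import Groth.Agent.Nakai.NefProper

/-!
# Sections of numerically trivial modules
-/

set_option autoImplicit false
set_option linter.style.haveILetI false
set_option linter.unusedSectionVars false
set_option backward.isDefEq.respectTransparency false
set_option backward.isDefEq.respectTransparency.types false
set_option maxHeartbeats 1000000
attribute [-instance] CategoryTheory.catToReflQuiver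

universe u

open CategoryTheory CategoryTheory.Limits AlgebraicGeometry TopologicalSpace Opposite
open Groth.Agent.H23.PicMul

noncomputable section

namespace Groth.Agent.NumTau

open Groth.Agent

variable (k : Type u) [Field k] {X : Scheme.{u}} [X.Over (Spec (CommRingCat.of k))]
  [IsProper (X ↘ Spec (CommRingCat.of k))]

include k in
/-- A section which does not generate everywhere meets the power of ample classes. -/
theorem alt_cons_neg_of_section [IsIntegral X] {e : ℕ} (hd : topologicalKrullDim X = (e + 1 : ℕ))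
    {A M : Fin e → X.Modules} (hA : ∀ j, CohB1.IsAmple (A j)) (hM : ∀ j, PicF.IsInvertible (M j))
    (hAM : ∀ j, PicF.cl (A j) * PicF.cl (M j) = 1) {N : X.Modules} (hN : PicF.IsInvertible N)
    (s : Coh.structureModule X ⟶ N) (hs : s ≠ 0) (hs' : ¬ IsIso s) :
    Big.alt k (Fin.cons N M) (Coh.structureModule X) < 0 := by
  haveI := CurveCohLib.isNoetherian_of_proper (k := k) (X := X)
  let O := Coh.structureModule X
  let m := HilbPoly.mulHom s O
  haveI := AVRosati.mono_of_ne_zero hN s hs
  haveI : Mono m := by
    let e : (DCoh.tensorBi (X := X)).obj O ≅ 𝟭 X.Modules :=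
      ((KFlatLib.tensorBiFlipIso X).app O).symm ≪≫ AmpleVan.twUnit
    haveI : Mono (((DCoh.tensorBi (X := X)).obj O).map s) := by
      rw [← NatIso.naturality_2 e s]
      infer_instance
    show Mono (HilbPoly.mulHom s O)
    rw [HilbPoly.mulHom]
    exact mono_comp _ _
  have hON : Coh.IsCoh (CohB1.tensorMod O N) := isCoh_tw k QCoh.isCoh_structureModule' hN
  have hC : Coh.IsCoh (cokernel m) := QCoh.isCoh_cokernel QCoh.isQCoh_structureModule hON m
  have hdimC : topologicalKrullDim ↥(CohB1.support (cokernel m)) = (e : WithBot ℕ∞) :=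
    AVRosati.dim_support_cokernel k hd hN s hs hs'
  obtain ⟨η, hη, hηd⟩ := Big.exists_topPt (⟨_, QCoh.isClosed_support_of_isFT hC.1 hC.2⟩ : Closeds X) hdimC
  have hpos := Big.alt_pos_of_components k (Big.pos k e) hA hM hAM hC hdimC.le hη hηd
  have hadd := Big.alt_add k hM (Big.shortExact_cokernel m) QCoh.isCoh_structureModule' hON hC
  dsimp only at hadd
  rw [Big.alt_cons]
  linarith

include k in
/-- `NT` gives numerical triviality. -/
theorem numTriv_of_nt {L : X.Modules} (h : NT k L) : Big.NumTriv k L := by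
  obtain ⟨hL, hn, L', hL', hn', e⟩ := h
  intro Y ι _ hY hd
  have h1 := (Big.nef_iff k hL).1 hn Y ι hY hd
  have h2 := (Big.nef_iff k hL').1 hn' Y ι hY hd
  rw [Big.cdeg_inverse k ι hd.le hL hL' e] at h2
  linarith

include k in
/-- A nonzero section of a numerically trivial module on a projective variety generates. -/
theorem isIso_section_projective [IsIntegral X] {d : ℕ} (hd : topologicalKrullDim X = d) {A : X.Modules}
    (hA : CohB1.IsAmple A) {N : X.Modules} (hN : NT k N) (s : Coh.structureModule X ⟶ N) (hs : s ≠ 0) :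
    IsIso s := by
  haveI := CurveCohLib.isNoetherian_of_proper (k := k) (X := X)
  obtain ⟨hNi, -⟩ := id hN
  rcases d with - | e
  · refine AVRosati.isIso_of_genLocus_eq_top s (Opens.ext (Set.eq_univ_of_forall fun x => ?_))
    obtain ⟨y, hy⟩ := Nakai.genLocus_nonempty hNi s hs
    have hg : genericPoint X ∈ CohB1.genLocus N s := (genericPoint_specializes y).mem_open (CohB1.genLocus N s).2 hy
    have hx : x ∈ closure ({genericPoint X} : Set X) := (genericPoint_spec X).specializes (Set.mem_univ x) |>.mem_closure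
    rw [Euler.closure_eq_self_of_dim_le_zero isClosed_univ ((topologicalKrullDim_subspace_le X _).trans hd.le)
      (Set.mem_univ _), Set.mem_singleton_iff] at hx
    rw [hx]
    exact hg
  · obtain ⟨A', hA', ⟨φ⟩⟩ := H23.PicInv.exists_inverse hA.1
    have hAM : PicF.cl A * PicF.cl A' = 1 := by rw [← cl_tensor, cl_eq_iff.2 ⟨φ⟩, H23.PicMul.one_def]
    by_contra hs'
    have h := alt_cons_neg_of_section k hd (A := fun _ : Fin e => A) (M := fun _ => A') (fun _ => hA) (fun _ => hA')
      (fun _ => hAM) hNi s hs hs'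
    rw [Big.alt_eq_zero_of_numTriv k hNi (numTriv_of_nt k hN) e _ (fun _ => hA') _ QCoh.isCoh_structureModule'
      ((topologicalKrullDim_subspace_le X _).trans hd.le)] at h
    exact lt_irrefl _ h

include k in
/-- A nonzero section of a numerically trivial module on a proper variety generates. -/
theorem isIso_section [IsIntegral X] {N : X.Modules} (hN : NT k N) (s : Coh.structureModule X ⟶ N) (hs : s ≠ 0) :
    IsIso s := by
  haveI := CurveCohLib.isNoetherian_of_proper (k := k) (X := X)
  obtain ⟨hNi, hn, N', hN', hn', eN⟩ := id hN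
  obtain ⟨d, hd⟩ : ∃ d : ℕ, topologicalKrullDim X = d :=
    ⟨_, VarDim.topologicalKrullDim_eq_deg_genericPoint (X ↘ Spec (CommRingCat.of k))⟩
  obtain ⟨Z, hZ, π, hπ, hgen, hZd, -, A, hA⟩ := Nakai.exists_chow k X hd
  letI : Z.Over (Spec (CommRingCat.of k)) := ⟨π ≫ (X ↘ Spec (CommRingCat.of k))⟩
  haveI : IsProper (Z ↘ Spec (CommRingCat.of k)) := inferInstanceAs (IsProper (π ≫ (X ↘ Spec (CommRingCat.of k))))
  haveI := CurveCohLib.isNoetherian_of_proper (k := k) (X := Z)
  have hNT : NT k ((Scheme.Modules.pullback π).obj N) :=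
    ⟨PicClLib.isInvertible_pullback π hNi, hn.pullback_proper k π rfl hNi, _, PicClLib.isInvertible_pullback π hN',
      hn'.pullback_proper k π rfl hN', by
        show PicF.pullCl π (PicF.cl N) * PicF.pullCl π (PicF.cl N') = 1
        rw [← pullCl_mul, eN, pullCl_one]⟩
  obtain ⟨e⟩ := PicClLib.nonempty_pullback_structureModule π
  have hg := InvX.genLocus_pullback π hNi s e.symm
  obtain ⟨y, hy⟩ := Nakai.genLocus_nonempty hNi s hs
  have hgX : π (genericPoint Z) ∈ CohB1.genLocus N s :=
    hgen ▸ (genericPoint_specializes y).mem_open (CohB1.genLocus N s).2 hy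
  have hs' : e.symm.hom ≫ (Scheme.Modules.pullback π).map s ≠ 0 := fun h0 => by
    have hmem : genericPoint Z ∈ π ⁻¹ᵁ CohB1.genLocus N s := hgX
    rw [← hg, h0] at hmem
    obtain ⟨W, hW, hWf⟩ := InvX.mem_genLocus hmem
    haveI : Nonempty W := ⟨⟨_, hW⟩⟩
    have h1 : (1 : Γ(Z, W)) = 0 := by
      refine (hWf W le_rfl).1 ?_
      have h2 : InvX.one (0 : Coh.structureModule Z ⟶ (Scheme.Modules.pullback π).obj N) = 0 := rfl
      simp only [h2, map_zero, smul_zero]
    exact one_ne_zero h1
  haveI := isIso_section_projective k hZd hA hNT _ hs'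
  rw [AVRosati.genLocus_eq_top_of_isIso] at hg
  refine AVRosati.isIso_of_genLocus_eq_top s (Opens.ext (Set.eq_univ_of_forall fun x => ?_))
  obtain ⟨z, rfl⟩ : x ∈ Set.range π := by
    have hc : IsClosed (Set.range π) := π.isClosedMap.isClosed_range
    exact ((genericPoint_spec X).specializes (Set.mem_univ x)).mem_closed hc ⟨_, hgen⟩
  exact hg.le (trivial : z ∈ (⊤ : Z.Opens))

end Groth.Agent.NumTau
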