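import Groth.Agent.NumTau.Cor
import Groth.Agent.NumTau.Section
import Groth.Agent.S4278

/-!
# Numerical classes of a bounded family
-/

set_option autoImplicit false
set_option linter.style.haveILetI false
set_option linter.unusedSectionVars false
set_option backward.isDefEq.respectTransparency false
set_option backward.isDefEq.respectTransparency.types false
set_option maxHeartbeats 1000000
attribute [-instance] CategoryTheory.catToReflQuiver

universe u

open CategoryTheory CategoryTheory.Limits AlgebraicGeometry TopologicalSpace Opposite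
open Groth.Agent.H23.PicMul

noncomputable section

namespace Groth.Agent.NumTau

open Groth.Agent

variable {k : Type u} [Field k] {X : Scheme.{u}} [X.Over (Spec (CommRingCat.of k))]
  [IsProper (X ↘ Spec (CommRingCat.of k))]

/-- Algebraic triviality implies numerical triviality. -/
theorem nt_of_algEquivZero [IsAlgClosed k] {L : X.Modules} (hL : PicF.IsInvertible L)
    (h : Pic13.IsAlgEquivZero k X L) : NT k L :=
  nt_of_numEquivZero hL (S4278.result k X L hL ⟨1, one_pos, isAlgEquivZero_congr (by rw [cl_tensorPow, pow_one]) h⟩)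

/-- The symbol only sees the numerical class of an entry. -/
theorem alt_cons_nt {r : ℕ} {M : Fin r → X.Modules} (hM : ∀ i, PicF.IsInvertible (M i)) {F : X.Modules}
    (hF : Coh.IsCoh F) (hr : topologicalKrullDim ↥(CohB1.support F) ≤ (r + 1 : ℕ)) {B C D : X.Modules}
    (hC : PicF.IsInvertible C) (hD : NT k D) (h : PicF.cl B = PicF.cl C * PicF.cl D) :
    Big.alt k (Fin.cons B M) F = Big.alt k (Fin.cons C M) F := by
  rw [Big.alt_congr_cl k (M := Fin.cons B M) (N := Fin.cons (CohB1.tensorMod C D) M) (F := F) (G := F)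
      (Fin.cases (by simp only [Fin.cons_zero]; rw [cl_tensor, h]) fun _ => rfl) rfl,
    Big.alt_cons_tensor k hM hF hC hD.1 hr,
    Big.alt_eq_zero_of_numTriv k hD.1 (numTriv_of_nt k hD) r M hM F hF hr, add_zero]

/-- A bounded family has finitely many numerical classes. -/
theorem exists_num_reps [IsAlgClosed k] {A : X.Modules} (hA : CohB1.IsAmple A) {P : X.Modules → Prop}
    (hinv : ∀ L, P L → PicF.IsInvertible L) (hP : Pic13.IsBounded k X P) :
    ∃ (q : ℕ) (R : Fin q → X.Modules), (∀ j, P (R j)) ∧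
      ∀ L, P L → ∃ (j : Fin q) (D : X.Modules), NT k D ∧ PicF.cl L = PicF.cl (R j) * PicF.cl D := by
  classical
  obtain ⟨N, 𝔽, h𝔽⟩ := exists_families hA hinv hP
  let S := {j : Fin N // ∃ L, P L ∧ (𝔽 j).Mem L}
  obtain ⟨q, ⟨e⟩⟩ := Finite.exists_equiv_fin S
  choose R hR hRm using fun s : S => s.2
  refine ⟨q, fun l => R (e.symm l), fun l => hR _, fun L hL => ?_⟩
  obtain ⟨j, hj⟩ := h𝔽 L hL
  let s : S := ⟨j, L, hL, hj⟩
  obtain ⟨R', hR', ⟨φ⟩⟩ := H23.PicInv.exists_inverse (hinv _ (hR s))
  have he : PicF.cl (R s) * PicF.cl R' = 1 := by rw [← cl_tensor, cl_eq_iff.2 ⟨φ⟩, H23.PicMul.one_def]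
  refine ⟨e s, CohB1.tensorMod L R', nt_of_algEquivZero (InvX.isInvertible_tensorMod (hinv L hL) hR')
    ((𝔽 j).algEquiv hj (hRm s) hR' he), ?_⟩
  show PicF.cl L = PicF.cl (R (e.symm (e s))) * PicF.cl (CohB1.tensorMod L R')
  rw [e.symm_apply_apply, cl_tensor, mul_comm (PicF.cl L), ← mul_assoc, he, one_mul]

end Groth.Agent.NumTau

namespace Groth.Agent.NumTau

open Groth.Agent

/-- Intersection numbers with ample classes are bounded on bounded families. -/
theorem intNum_bounded (k : Type u) [Field k] [IsAlgClosed k] (X : Scheme.{u})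
    [X.Over (Spec (CommRingCat.of k))] [IsProper (X ↘ Spec (CommRingCat.of k))] (s : ℕ)
    (hdim : topologicalKrullDim X = (s + 2 : ℕ)) (H H' : X.Modules) (hH : CohB1.IsAmple H)
    (hHH' : Nonempty (CohB1.tensorMod H H' ≅ Coh.structureModule X))
    (P : X.Modules → Prop) (hP : ∀ L, P L → PicF.IsInvertible L) (hb : Pic13.IsBounded k X P) :
    ∃ B : ℤ, ∀ L L' : X.Modules, P L → Nonempty (CohB1.tensorMod L L' ≅ Coh.structureModule X) →
      |FGA.intNum k X (s + 2) (Matrix.vecCons L' (fun _ : Fin (s + 1) => H')) (Coh.structureModule X)| ≤ B ∧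
      -B ≤ FGA.intNum k X (s + 2) (Matrix.vecCons L' (Matrix.vecCons L' (fun _ : Fin s => H'))) (Coh.structureModule X) := by
  haveI := CurveCohLib.isNoetherian_of_proper (k := k) (X := X)
  obtain ⟨q, R, hR, hrep⟩ := exists_num_reps (k := k) hH hP hb
  have hH' : PicF.IsInvertible H' := isInvertible_of_cl_mul_eq_one (X := X) hH.1 (cl_mul_one_of_iso hHH')
  choose R' hR' hRR' using fun j => H23.PicInv.exists_inverse (hP _ (hR j))
  let v1 : X.Modules → ℤ := fun N =>
    FGA.intNum k X (s + 2) (Matrix.vecCons N (fun _ : Fin (s + 1) => H')) (Coh.structureModule X)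
  let v2 : X.Modules → ℤ := fun N =>
    FGA.intNum k X (s + 2) (Matrix.vecCons N (Matrix.vecCons N (fun _ : Fin s => H'))) (Coh.structureModule X)
  refine ⟨∑ j, (|v1 (R' j)| + |v2 (R' j)|), fun L L' hL hLL' => ?_⟩
  obtain ⟨j, D, hD, hcl⟩ := hrep L hL
  have hL' : PicF.IsInvertible L' := isInvertible_of_cl_mul_eq_one (X := X) (hP L hL) (cl_mul_one_of_iso hLL')
  obtain ⟨D', hD', hDD'⟩ := hD.inv
  have hcl' : PicF.cl L' = PicF.cl (R' j) * PicF.cl D' := by
    have h1 := cl_mul_one_of_iso hLL'
    have h2 := cl_mul_one_of_iso (hRR' j)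
    calc PicF.cl L' = PicF.cl L' * ((PicF.cl (R j) * PicF.cl (R' j)) * (PicF.cl D * PicF.cl D')) := by
          rw [h2, hDD', one_mul, mul_one]
      _ = ((PicF.cl (R j) * PicF.cl D) * PicF.cl L') * (PicF.cl (R' j) * PicF.cl D') := by ac_rfl
      _ = _ := by rw [← hcl, h1, one_mul]
  have hd : topologicalKrullDim ↥(CohB1.support (Coh.structureModule X)) ≤ (s + 1 + 1 : ℕ) :=
    (topologicalKrullDim_subspace_le X _).trans hdim.le
  have hO := QCoh.isCoh_structureModule' (X := X)
  have hc : ∀ {N : X.Modules}, PicF.IsInvertible N →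
      ∀ i : Fin (s + 1), PicF.IsInvertible ((Fin.cons N (fun _ : Fin s => H') : Fin (s + 1) → X.Modules) i) :=
    fun hN => Fin.cases hN fun _ => hH'
  have e1 : v1 L' = v1 (R' j) := by
    have hN : ∀ {N : X.Modules}, PicF.IsInvertible N →
        (v1 N : ℚ) = Big.alt k (Fin.cons N fun _ : Fin (s + 1) => H') (Coh.structureModule X) := fun hN =>
      Big.intNum_eq_alt k hdim.le (Fin.cases hN fun _ => hH') hO
    exact_mod_cast (hN hL').trans ((alt_cons_nt (fun _ => hH') hO hd (hR' j) hD' hcl').trans (hN (hR' j)).symm)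
  have e2 : v2 L' = v2 (R' j) := by
    have hN : ∀ {N : X.Modules}, PicF.IsInvertible N →
        (v2 N : ℚ) = Big.alt k (Fin.cons N (Fin.cons N fun _ : Fin s => H')) (Coh.structureModule X) := fun hN =>
      Big.intNum_eq_alt k hdim.le (Fin.cases hN (hc hN)) hO
    have hswap : ∀ A B : X.Modules,
        (Fin.cons A (Fin.cons B fun _ : Fin s => H') : Fin (s + 2) → X.Modules) ∘ Equiv.swap 0 1 =
          Fin.cons B (Fin.cons A fun _ : Fin s => H') := fun A B => funext fun i => by
      refine Fin.cases ?_ (fun i => Fin.cases ?_ (fun i => ?_) i) i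
      · simp
      · simp
      · simp [Equiv.swap_apply_of_ne_of_ne, Fin.succ_ne_zero, Fin.ext_iff]
    have step : Big.alt k (Fin.cons L' (Fin.cons L' fun _ : Fin s => H')) (Coh.structureModule X) =
        Big.alt k (Fin.cons (R' j) (Fin.cons (R' j) fun _ : Fin s => H')) (Coh.structureModule X) := by
      rw [alt_cons_nt (hc hL') hO hd (hR' j) hD' hcl', ← Big.alt_perm k (Equiv.swap 0 1), hswap,
        alt_cons_nt (hc (hR' j)) hO hd (hR' j) hD' hcl']
    exact_mod_cast (hN hL').trans (step.trans (hN (hR' j)).symm)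
  show |v1 L'| ≤ _ ∧ -_ ≤ v2 L'
  rw [e1, e2]
  have h := Finset.single_le_sum (f := fun j => |v1 (R' j)| + |v2 (R' j)|) (fun j _ => by positivity) (Finset.mem_univ j)
  exact ⟨by linarith [abs_nonneg (v2 (R' j))], by linarith [neg_abs_le (v2 (R' j)), abs_nonneg (v1 (R' j))]⟩

end Groth.Agent.NumTau
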