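import Groth.Agent.NumTau.Piece
import Groth.Agent.Big.Kodaira
import Groth.Agent.Big.Semiample
import Groth.Agent.H9ProperSupp.Existence
import Groth.Agent.ExtShX.ClosedHom
import Groth.Agent.ShStabLib.DimFinite

/-!
# Integral closed subschemes give pieces
-/

set_option autoImplicit false
set_option linter.style.haveILetI false
set_option linter.unusedSectionVars false
set_option backward.isDefEq.respectTransparency false
set_option backward.isDefEq.respectTransparency.types false
set_option maxHeartbeats 1000000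
attribute [-instance] CategoryTheory.catToReflQuiver

universe u

open CategoryTheory CategoryTheory.Limits AlgebraicGeometry TopologicalSpace Opposite
open Groth.Agent.H23.PicMul

noncomputable section

namespace Groth.Agent.NumTau

open Groth.Agent

variable (k : Type u) [Field k]

include k in
theorem isIso_of_section {Z : Scheme.{u}} [Z.Over (Spec (CommRingCat.of k))]
    [IsProper (Z ↘ Spec (CommRingCat.of k))] [IsIntegral Z] [Subsingleton Z] {N : Z.Modules}
    (hN : PicF.IsInvertible N) (s : Coh.structureModule Z ⟶ N) (hs : s ≠ 0) : IsIso s := by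
  haveI := CurveCohLib.isNoetherian_of_proper (k := k) (X := Z)
  haveI : Mono s := InvEnd.mono_of_ne_zero CurveDeg.isInvertible_structureModule hN s hs
  obtain ⟨x, hx⟩ := Nakai.genLocus_nonempty hN s hs
  have hz : IsZero (cokernel s) := CurveCohLib.isZero_of_subsingleton_stalks fun y => not_not.1 fun hy =>
    Nakai.support_cokernel_subset hN s hy (Subsingleton.elim x y ▸ hx)
  haveI : Epi s := Preadditive.epi_of_isZero_cokernel s hz
  exact isIso_of_mono_of_epi s

/-- The structure module of a proper integral scheme has a nonzero section. -/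
theorem h0_structure_pos {Z : Scheme.{u}} [Z.Over (Spec (CommRingCat.of k))]
    [IsProper (Z ↘ Spec (CommRingCat.of k))] [IsIntegral Z] : 0 < Big.h0 k (Coh.structureModule Z) := by
  haveI := CurveCohLib.isNoetherian_of_proper (k := k) (X := Z)
  haveI := CurveCohLib.finite_HH (k := k) (QCoh.isCoh_structureModule' (X := Z)) 0
  haveI : Nontrivial Γ(Coh.structureModule Z, (⊤ : Z.Opens)) :=
    inferInstanceAs (Nontrivial Γ(Z, (⊤ : Z.Opens)))
  haveI : Nontrivial (Coh.HH Z (Coh.structureModule Z) 0) :=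
    (Big.sect (Coh.structureModule Z)).toEquiv.nontrivial
  exact Module.finrank_pos

variable {X Z : Scheme.{u}} [X.Over (Spec (CommRingCat.of k))] [IsProper (X ↘ Spec (CommRingCat.of k))]

/-- The sections of `z_* O ⊗ N` are those of `z^* N`. -/
theorem h0_push_structure (z : Z ⟶ X) [IsClosedImmersion z] {N : X.Modules} (hN : PicF.IsInvertible N) :
    letI : Z.Over (Spec (CommRingCat.of k)) := ⟨z ≫ (X ↘ Spec (CommRingCat.of k))⟩
    Big.h0 k (CohB1.tensorMod ((Coh.push z).obj (Coh.structureModule Z)) N) =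
      Big.h0 k ((Scheme.Modules.pullback z).obj N) := by
  letI : Z.Over (Spec (CommRingCat.of k)) := ⟨z ≫ (X ↘ Spec (CommRingCat.of k))⟩
  have hz := PicClLib.isInvertible_pullback z hN
  obtain ⟨e⟩ := AmpleDev.push_tensor_iso z hN (Coh.structureModule Z)
  obtain ⟨u⟩ : Nonempty (CohB1.tensorMod (Coh.structureModule Z) ((Scheme.Modules.pullback z).obj N) ≅
      (Scheme.Modules.pullback z).obj N) := cl_eq_iff.1 (by rw [cl_tensor, ← H23.PicMul.one_def, one_mul])
  obtain ⟨l⟩ := PnCoh.exists_linearEquiv_push k z (rfl : z ≫ (X ↘ Spec (CommRingCat.of k)) = _)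
    (ProjUPX.isQCoh_of_isInvertible hz) 0
  exact (Big.h0_congr k (e ≪≫ (Coh.push z).mapIso u)).trans l.finrank_eq.symm

include k in
/-- A nonzero section on an integral closed subscheme gives a map with small cokernel. -/
theorem exists_push_mono (z : Z ⟶ X) [IsClosedImmersion z] [IsIntegral Z] {ξ : X}
    (hr : Set.range z = closure {ξ}) {N : X.Modules} (hN : PicF.IsInvertible N)
    (s : Coh.structureModule Z ⟶ (Scheme.Modules.pullback z).obj N) (hs : s ≠ 0) :
    ∃ φ : (Coh.push z).obj (Coh.structureModule Z) ⟶ CohB1.tensorMod ((Coh.push z).obj (Coh.structureModule Z)) N,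
      Mono φ ∧ CohB1.support (cokernel φ) ⊆ closure {ξ} ∧ ξ ∉ CohB1.support (cokernel φ) := by
  haveI := CurveCohLib.isNoetherian_of_proper (k := k) (X := X)
  haveI : IsNoetherian Z :=
    { __ := LocallyOfFiniteType.isLocallyNoetherian z
      __ := QuasiCompact.compactSpace_of_compactSpace z }
  have hz := PicClLib.isInvertible_pullback z hN
  haveI : Mono s := InvEnd.mono_of_ne_zero CurveDeg.isInvertible_structureModule hz s hs
  haveI : PreservesFiniteColimits (Coh.push z) := ExtShX.ClosedHom.preservesFiniteColimits_push z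
  haveI : PreservesFiniteLimits (Coh.push z) := ExtShX.ClosedHom.preservesFiniteLimits_push z
  obtain ⟨e⟩ := AmpleDev.push_tensor_iso z hN (Coh.structureModule Z)
  obtain ⟨u⟩ : Nonempty (CohB1.tensorMod (Coh.structureModule Z) ((Scheme.Modules.pullback z).obj N) ≅
      (Scheme.Modules.pullback z).obj N) := cl_eq_iff.1 (by rw [cl_tensor, ← H23.PicMul.one_def, one_mul])
  haveI : Mono ((Coh.push z).map s) := Functor.map_mono _ s
  refine ⟨(Coh.push z).map s ≫ ((Coh.push z).mapIso u.symm ≪≫ e.symm).hom, mono_comp _ _, ?_⟩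
  let i₁ : cokernel ((Coh.push z).map s ≫ ((Coh.push z).mapIso u.symm ≪≫ e.symm).hom) ≅
      (Coh.push z).obj (cokernel s) :=
    cokernelCompIsIso _ _ ≪≫ (PreservesCokernel.iso (Coh.push z) s).symm
  have hc : Coh.IsCoh (cokernel s) :=
    QCoh.isCoh_cokernel QCoh.isQCoh_structureModule (AmpleVan.isCoh_invertible hz) s
  have hp : Coh.IsCoh ((Coh.push z).obj (cokernel s)) := QCoh.isCoh_push z hc
  have hC : IsClosed (z '' (CohB1.genLocus _ s : Set Z)ᶜ) :=
    z.isClosedEmbedding.isClosedMap _ (CohB1.genLocus _ s).2.isClosed_compl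
  rw [← QCoh.support_iso i₁.symm hp.1]
  have hsub : CohB1.support ((Coh.push z).obj (cokernel s)) ⊆ z '' (CohB1.genLocus _ s : Set Z)ᶜ :=
    H9ProperSupp.support_push_subset_of_closed z hp.1 hC fun x hx =>
      ⟨x, Nakai.support_cokernel_subset hz s hx, rfl⟩
  refine ⟨hsub.trans ((Set.image_subset_range _ _).trans hr.le), fun hξ => ?_⟩
  obtain ⟨x, hx, hxξ⟩ := hsub hξ
  obtain ⟨y, hy⟩ := Nakai.genLocus_nonempty hz s hs
  refine hx ((CohB1.genLocus _ s).2.stableUnderGeneralization ?_ hy)
  refine z.isClosedEmbedding.isInducing.specializes_iff.1 ?_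
  rw [hxξ]
  exact specializes_iff_mem_closure.2 (hr.le ⟨y, rfl⟩)

/-- The sections of numerically trivial classes on an integral closed subscheme are bounded after a negative twist. -/
theorem bound_push_structure (z : Z ⟶ X) [IsClosedImmersion z] [IsIntegral Z] {A : X.Modules}
    (hA : CohB1.IsAmple A) (hgen : ∀ x : X, ∃ t : Γ(A, (⊤ : X.Opens)), x ∈ AmpleX.locus t)
    {ξ : X} (hr : Set.range z = closure {ξ})
    (hsmall : ∀ F : X.Modules, Coh.IsCoh F → CohB1.support F ⊆ closure {ξ} → ξ ∉ CohB1.support F → Good k A F) :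
    BProp k ((Coh.push z).obj (Coh.structureModule Z)) := by
  haveI := CurveCohLib.isNoetherian_of_proper (k := k) (X := X)
  letI : Z.Over (Spec (CommRingCat.of k)) := ⟨z ≫ (X ↘ Spec (CommRingCat.of k))⟩
  haveI : IsProper (Z ↘ Spec (CommRingCat.of k)) :=
    inferInstanceAs (IsProper (z ≫ (X ↘ Spec (CommRingCat.of k))))
  haveI := CurveCohLib.isNoetherian_of_proper (k := k) (X := Z)
  obtain ⟨D, hD⟩ := ShStabLib.exists_dim_le_proper k Z
  obtain ⟨d, -, hd⟩ := Big.dim_nat_of_le (X := Z) (d := D) (by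
    have := hD Set.univ
    rwa [(Homeomorph.Set.univ Z).isHomeomorph.topologicalKrullDim_eq] at this)
  obtain ⟨t, ht⟩ := hgen (z (genericPoint Z))
  obtain ⟨s, hs, -⟩ := Big.exists_section_pullback k z hA.1 ht
  have hAz := PicClLib.isInvertible_pullback z hA.1
  have hAzA := AmpleDev.isAmple_pullback_finite k z hA
  rcases Nat.eq_zero_or_pos d with rfl | hdpos
  · haveI : Subsingleton Z := by
      refine Set.subsingleton_univ_iff.1 ?_
      have hd' : topologicalKrullDim ↥(Set.univ : Set Z) ≤ ((0 : ℕ) : WithBot ℕ∞) := by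
        rw [(Homeomorph.Set.univ Z).isHomeomorph.topologicalKrullDim_eq]; exact hd.le
      have h := Euler.closure_eq_self_of_dim_le_zero isClosed_univ hd' (Set.mem_univ (genericPoint Z))
      rw [genericPoint_closure] at h
      rw [h]; exact Set.subsingleton_singleton
    refine ⟨Big.h0 k (Coh.structureModule Z), fun M hM => le_of_eq ((h0_push_structure k z hM.1).trans
      (Big.h0_congr_cl k ?_))⟩
    have hMz := PicClLib.isInvertible_pullback z hM.1
    obtain ⟨b, -, s', hs'⟩ := Big.exists_section_twist k hd.le hAzA hMz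
    haveI := isIso_of_section k (InvX.isInvertible_tensorMod hMz (InvX.isInvertible_tensorPow hAz b)) s' hs'
    haveI := isIso_of_section k hAz s hs
    have e1 := cl_eq_iff.2 ⟨asIso s⟩
    have e2 := cl_eq_iff.2 ⟨asIso s'⟩
    rw [cl_tensor, cl_tensorPow, ← e1, ← H23.PicMul.one_def, one_pow, mul_one] at e2
    exact e2.symm
  · obtain ⟨A', hA', ⟨ε⟩⟩ := H23.PicInv.exists_inverse hA.1
    have hAA' : PicF.cl A * PicF.cl A' = 1 := by rw [← cl_tensor, cl_eq_iff.2 ⟨ε⟩, H23.PicMul.one_def]
    obtain ⟨φ, hφ, hQ1, hQ2⟩ := exists_push_mono k z hr hA.1 s hs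
    haveI := hφ
    have hW : Coh.IsCoh ((Coh.push z).obj (Coh.structureModule Z)) := QCoh.isCoh_push_structure z
    have h2 : Coh.IsCoh (CohB1.tensorMod ((Coh.push z).obj (Coh.structureModule Z)) A) := isCoh_tw k hW hA.1
    have h3 : Coh.IsCoh (cokernel φ) := QCoh.isCoh_cokernel hW.1 h2 φ
    have hQ' := Big.support_tensorMod_comm (ProjUPX.isQCoh_of_isInvertible hA') h3.1
    obtain ⟨⟨c, hc⟩, -⟩ := hsmall _ (isCoh_tw k h3 hA') (hQ'.trans hQ1) fun h => hQ2 (hQ' h)
    refine ⟨c, fun M hM => ?_⟩
    have hneg : Big.h0 k (CohB1.tensorMod ((Coh.push z).obj (Coh.structureModule Z)) (CohB1.tensorMod A' M)) = 0 := by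
      rw [h0_push_structure k z (InvX.isInvertible_tensorMod hA' hM.1)]
      by_contra hne
      obtain ⟨σ, hσ⟩ := Big.exists_hom_of_h0_pos k (Nat.pos_of_ne_zero hne)
      obtain ⟨M', hM', hMM'⟩ := hM.inv
      have hB : CohB1.IsAmple ((Scheme.Modules.pullback z).obj (CohB1.tensorMod (CohB1.tensorPow M' 1) A)) :=
        AmpleDev.isAmple_pullback_finite k z (Nakai.isAmple_tensor_of_nef k hM'.1 hM'.2.1 hA 1)
      let B := (Scheme.Modules.pullback z).obj (CohB1.tensorMod (CohB1.tensorPow M' 1) A)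
      let N := (Scheme.Modules.pullback z).obj (CohB1.tensorMod A' M)
      have hN : PicF.IsInvertible N := PicClLib.isInvertible_pullback z (InvX.isInvertible_tensorMod hA' hM.1)
      have hNB : PicF.cl N * PicF.cl B = 1 := by
        show PicF.pullCl z (PicF.cl (CohB1.tensorMod A' M)) *
          PicF.pullCl z (PicF.cl (CohB1.tensorMod (CohB1.tensorPow M' 1) A)) = 1
        rw [← pullCl_mul, cl_tensor, cl_tensor, cl_tensorPow, pow_one,
          show PicF.cl A' * PicF.cl M * (PicF.cl M' * PicF.cl A) = (PicF.cl A * PicF.cl A') * (PicF.cl M * PicF.cl M')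
            by ac_rfl, hAA', hMM', one_mul, pullCl_one]
      obtain ⟨q, hq, hqn, n₀, hn₀⟩ := Big.exists_poly_h0 k hB (QCoh.isCoh_structureModule' (X := Z))
        (C := (⊤ : Closeds Z)) (fun x _ => trivial) (d := d)
        ((Topology.IsInducing.subtypeVal.topologicalKrullDim_le).trans hd.le)
      have hlead := Big.coeff_pos_invertible k hd hB CurveDeg.isInvertible_structureModule hqn
      have hqd : q.natDegree = d := le_antisymm hq (Polynomial.le_natDegree_of_ne_zero hlead.ne')
      have htend : Filter.Tendsto (fun n : ℕ => q.eval (n : ℚ)) Filter.atTop Filter.atTop := by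
        refine (Polynomial.tendsto_atTop_of_leadingCoeff_nonneg q ?_ ?_).comp tendsto_natCast_atTop_atTop
        · exact Polynomial.natDegree_pos_iff_degree_pos.1 (hqd ▸ hdpos)
        · rw [Polynomial.leadingCoeff, hqd]; exact hlead.le
      obtain ⟨j, hj⟩ := Filter.eventually_atTop.1
        (htend.eventually_gt_atTop (Big.h0 k (Coh.structureModule Z) : ℚ))
      let m := n₀ + j + 1
      have h1 := hj m (by omega)
      rw [← hn₀ m (by omega), Nat.cast_lt] at h1
      obtain ⟨η, hη⟩ := Nakai.genLocus_nonempty hN σ hσ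
      have hσm : InvX.powHom σ m ≠ 0 := Nakai.ne_zero_of_mem_genLocus (x := η)
        ((InvX.genLocus_powHom hN σ (n₀ + j)).symm ▸ hη)
      refine absurd h1 (not_lt.2 ?_)
      refine le_of_le_of_eq (Big.h0_le_twist k (InvX.isInvertible_tensorPow hN m)
        (InvX.isInvertible_tensorPow hB.1 m) (InvX.powHom σ m) hσm) (Big.h0_congr_cl k ?_)
      rw [cl_tensor, cl_tensorPow, cl_tensorPow, ← mul_pow, hNB, one_pow, H23.PicMul.one_def]
    have key := h0_ses_tw (k := k) (S := ShortComplex.mk φ (cokernel.π φ) (cokernel.condition φ))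
      (Big.shortExact_cokernel φ) h2 h3 (InvX.isInvertible_tensorMod hA' hM.1)
    rw [show Big.h0 k (CohB1.tensorMod ((Coh.push z).obj (Coh.structureModule Z)) (CohB1.tensorMod A' M)) = 0 from hneg,
      zero_add] at key
    refine le_of_eq_of_le (Big.h0_congr_cl k ?_) (key.trans (le_of_eq_of_le (Big.h0_congr_cl k ?_) (hc M hM)))
    · simp only [cl_tensor]
      rw [show ∀ a b c e : PicF.Cl X, a * b * (c * e) = a * e * (b * c) from fun a b c e => by ac_rfl, hAA', mul_one]
    · simp only [cl_tensor]; rw [mul_assoc]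

/-- Integral closed subschemes give pieces. -/
theorem piece_push_structure (z : Z ⟶ X) [IsClosedImmersion z] [IsIntegral Z] {A : X.Modules}
    (hA : CohB1.IsAmple A) (hgen : ∀ x : X, ∃ t : Γ(A, (⊤ : X.Opens)), x ∈ AmpleX.locus t)
    {ξ : X} (hr : Set.range z = closure {ξ})
    (hsmall : ∀ F : X.Modules, Coh.IsCoh F → CohB1.support F ⊆ closure {ξ} → ξ ∉ CohB1.support F → Good k A F) :
    Piece (k := k) A ((Coh.push z).obj (Coh.structureModule Z)) := by
  haveI := CurveCohLib.isNoetherian_of_proper (k := k) (X := X)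
  letI : Z.Over (Spec (CommRingCat.of k)) := ⟨z ≫ (X ↘ Spec (CommRingCat.of k))⟩
  haveI : IsProper (Z ↘ Spec (CommRingCat.of k)) :=
    inferInstanceAs (IsProper (z ≫ (X ↘ Spec (CommRingCat.of k))))
  haveI := CurveCohLib.isNoetherian_of_proper (k := k) (X := Z)
  have hW : Coh.IsCoh ((Coh.push z).obj (Coh.structureModule Z)) := QCoh.isCoh_push_structure z
  have hsec : ∀ N : X.Modules, PicF.IsInvertible N → ∀ s : Coh.structureModule Z ⟶ (Scheme.Modules.pullback z).obj N,
      s ≠ 0 → HasSect (k := k) A ((Coh.push z).obj (Coh.structureModule Z)) N := fun N hN s hs => by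
    obtain ⟨φ, hφ, hQ1, hQ2⟩ := exists_push_mono k z hr hN s hs
    have h3 : Coh.IsCoh (cokernel φ) := QCoh.isCoh_cokernel hW.1 (isCoh_tw k hW hN) φ
    refine ⟨φ, hφ, fun P hP => ?_⟩
    have hQ' := Big.support_tensorMod_comm (ProjUPX.isQCoh_of_isInvertible hP) h3.1
    exact hsmall _ (isCoh_tw k h3 hP) (hQ'.trans hQ1) fun h => hQ2 (hQ' h)
  have hsect : ∀ N : X.Modules, PicF.IsInvertible N → ∃ b : ℕ,
      HasSect (k := k) A ((Coh.push z).obj (Coh.structureModule Z)) (CohB1.tensorMod N (CohB1.tensorPow A b)) := by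
    intro N hN
    obtain ⟨D, hD⟩ := ShStabLib.exists_dim_le_proper k Z
    have hd : topologicalKrullDim Z ≤ (D : WithBot ℕ∞) := by
      have := hD Set.univ
      rwa [(Homeomorph.Set.univ Z).isHomeomorph.topologicalKrullDim_eq] at this
    obtain ⟨b, -, s, hs⟩ := Big.exists_section_twist k hd (AmpleDev.isAmple_pullback_finite k z hA)
      (PicClLib.isInvertible_pullback z hN)
    obtain ⟨e⟩ : Nonempty (CohB1.tensorMod ((Scheme.Modules.pullback z).obj N)
        (CohB1.tensorPow ((Scheme.Modules.pullback z).obj A) b) ≅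
          (Scheme.Modules.pullback z).obj (CohB1.tensorMod N (CohB1.tensorPow A b))) := cl_eq_iff.1 (by
      show _ = PicF.pullCl z (PicF.cl (CohB1.tensorMod N (CohB1.tensorPow A b)))
      rw [cl_tensor, cl_tensor, cl_tensorPow, cl_tensorPow, pullCl_mul, pullCl_pow]
      rfl)
    refine ⟨b, hsec _ (InvX.isInvertible_tensorMod hN (InvX.isInvertible_tensorPow hA.1 b)) (s ≫ e.hom) fun h => hs ?_⟩
    rw [← cancel_mono e.hom, h, zero_comp]
  refine ⟨hW, ?_, hsect, fun N hN hpos => ?_, bound_push_structure k z hA hgen hr hsmall, fun j₀ => ?_⟩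
  · obtain ⟨t, ht⟩ := hgen (z (genericPoint Z))
    obtain ⟨s, hs, -⟩ := Big.exists_section_pullback k z hA.1 ht
    exact hsec A hA.1 s hs
  · rw [h0_push_structure k z hN] at hpos
    obtain ⟨s, hs⟩ := Big.exists_hom_of_h0_pos k hpos
    obtain ⟨φ, hφ, -⟩ := hsec N hN s hs
    exact ⟨φ, hφ⟩
  · have hO := CurveDeg.isInvertible_structureModule (X := X)
    have hAj := InvX.isInvertible_tensorPow hA.1 j₀
    obtain ⟨b, φ, hφ, -⟩ := hsect (CohB1.tensorPow A j₀) hAj
    haveI := hφ
    refine ⟨j₀ + b, Nat.le_add_right _ _, lt_of_lt_of_le ?_ (le_of_le_of_eq (h0_mono_tw φ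
      (isCoh_tw k hW (InvX.isInvertible_tensorMod hAj (InvX.isInvertible_tensorPow hA.1 b))) hO)
      (Big.h0_congr_cl k ?_))⟩
    · rw [h0_push_structure k z hO]
      refine lt_of_lt_of_eq (h0_structure_pos k) (Big.h0_congr_cl k ?_)
      show _ = PicF.pullCl z (PicF.cl (Coh.structureModule X))
      rw [← H23.PicMul.one_def, ← H23.PicMul.one_def, pullCl_one]
    · simp only [cl_tensor, cl_tensorPow, pow_add, ← H23.PicMul.one_def, mul_one]

end Groth.Agent.NumTau

end
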