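import Groth.Agent.NumTau.Main
import Groth.Agent.Nakai.Uni
import Groth.Agent.ShStabLib.DimFinite
import Groth.Agent.CohBasic.PushSupp

/-!
# The dimension of the support is the degree of the Hilbert polynomial
-/

set_option autoImplicit false
set_option linter.style.haveILetI false
set_option linter.unusedSectionVars false
set_option backward.isDefEq.respectTransparency false
set_option backward.isDefEq.respectTransparency.types false
set_option maxHeartbeats 1000000
attribute [-instance] CategoryTheory.catToReflQuiver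

universe u

open CategoryTheory CategoryTheory.Limits AlgebraicGeometry TopologicalSpace Opposite
open Groth.Agent.H23.PicMul

noncomputable section

namespace Groth.Agent.NumTau

open Groth.Agent

theorem exists_natDim {T : Type*} [TopologicalSpace T] [Nonempty T] {D : ℕ}
    (h : topologicalKrullDim T ≤ (D : WithBot ℕ∞)) : ∃ e : ℕ, topologicalKrullDim T = e := by
  haveI : Nonempty (IrreducibleCloseds T) :=
    ⟨⟨closure {Classical.arbitrary T}, isIrreducible_singleton.closure, isClosed_closure⟩⟩
  have h0 : (0 : WithBot ℕ∞) ≤ topologicalKrullDim T := Order.krullDim_nonneg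
  cases hd : topologicalKrullDim T with
  | bot => rw [hd] at h0; exact absurd h0 (by simp)
  | coe a =>
    cases a with
    | top => rw [hd] at h; exact absurd h (fun h' => ENat.natCast_ne_top D (top_le_iff.1 (WithBot.coe_le_coe.1 h')))
    | coe a => exact ⟨a, rfl⟩

variable {k : Type u} [Field k] {X : Scheme.{u}} [X.Over (Spec (CommRingCat.of k))]
  [IsProper (X ↘ Spec (CommRingCat.of k))]

theorem support_nonempty {M : X.Modules} (hM : Coh.IsQCoh M) (h0 : ¬ IsZero M) : (CohB1.support M).Nonempty := by
  by_contra h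
  refine h0 (QCoh.isZero_of_app_eq_zero hM fun U x => ?_)
  haveI := CohBasic.subsingleton_sections_of_stalks (M := M) U.1 fun y _ => not_not.1 fun hy => h ⟨y, hy⟩
  exact Subsingleton.elim _ _

/-- The degree of the Hilbert polynomial is the dimension of the support. -/
theorem dim_support_eq_natDegree {A : X.Modules} (hA : CohB1.IsAmple A) {F : X.Modules} (hF : Coh.IsCoh F)
    (h0 : ¬ IsZero F) {P : Polynomial ℚ} (hP : ∀ m : ℕ, Snapper.χ k A F m = P.eval (m : ℚ)) :
    topologicalKrullDim ↥(CohB1.support F) = (P.natDegree : WithBot ℕ∞) := by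
  haveI := CurveCohLib.isNoetherian_of_proper (k := k) (X := X)
  obtain ⟨D, hD⟩ := ShStabLib.exists_dim_le_proper k X
  haveI : Nonempty ↥(CohB1.support F) := (support_nonempty hF.1 h0).to_subtype
  obtain ⟨e, he⟩ := exists_natDim (hD (CohB1.support F))
  let C : Closeds X := ⟨_, QCoh.isClosed_support_of_isFT hF.1 hF.2⟩
  obtain ⟨q, hq, hqn⟩ := Nakai.exists_poly k hA.1 hF (C := C) subset_rfl he.le
  have hPq : P = q := Polynomial.eq_of_infinite_eval_eq _ _
    ((Set.infinite_range_of_injective (Nat.cast_injective (R := ℚ))).mono (by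
      rintro _ ⟨j, rfl⟩
      show P.eval (j : ℚ) = q.eval (j : ℚ)
      rw [← hP, hqn]))
  obtain ⟨η, hη, hηd⟩ := Big.exists_topPt C he
  have hpos : 0 < q.coeff e := Nakai.coeff_pos_of_components k hA.1 hF (C := C) he.le subset_rfl hqn
    (fun ξ hξ p hp hpn => by
      let W := Scheme.IdealSheafData.vanishingIdeal (⟨closure ({ξ} : Set X), isClosed_closure⟩ : Closeds X)
      letI : W.subscheme.Over (Spec (CommRingCat.of k)) := ⟨W.subschemeι ≫ (X ↘ Spec (CommRingCat.of k))⟩
      haveI : IsProper (W.subscheme ↘ Spec (CommRingCat.of k)) :=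
        inferInstanceAs (IsProper (W.subschemeι ≫ (X ↘ Spec (CommRingCat.of k))))
      haveI : IsIntegral W.subscheme := QCoh.isIntegral_closure_point ξ
      refine Nakai.coeff_pos_of_isAmple_integral k e ?_ (AmpleDev.isAmple_pullback_finite k W.subschemeι hA) p hp
        fun n => (Nakai.χ_push k W.subschemeι rfl hA.1 QCoh.isQCoh_structureModule n).symm.trans (hpn n)
      rw [AmpleDev.dim_eq_one_of_closedImmersion W.subschemeι (H23.RedSub.range_vanishingIdeal _)]
      exact hξ) hη hηd
  rw [he, hPq, le_antisymm hq (Polynomial.le_natDegree_of_ne_zero hpos.ne')]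

end Groth.Agent.NumTau

namespace Groth.Agent.NumTau

open Groth.Agent

attribute [local instance] FppfPic.HyperPn.projOver'

theorem dim_support_projSpace (k : Type u) [Field k] (n : ℕ)
    (F : (CohB1.ProjSpace n k).Modules) (hF : Coh.IsCoh F) (hF0 : ¬ IsZero F) (P : Polynomial ℚ)
    (hP : ∀ m : ℤ,
      ((Finset.range (n + 1)).sum fun j => (-1 : ℚ) ^ j *
        (Module.finrank k (Coh.HH (CohB1.ProjSpace n k) (CohB1.tensorMod F (Twist.twistProjSpace n k m)) j) : ℚ)) =
      P.eval (m : ℚ)) :
    topologicalKrullDim ↥(CohB1.support F) = (P.natDegree : WithBot ℕ∞) := by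
  letI : (CohB1.ProjSpace n k).Over (Spec (CommRingCat.of k)) :=
    inferInstanceAs ((Proj (CohB1.polyGrading n k)).Over (Spec (CommRingCat.of k)))
  haveI : IsProper (CohB1.ProjSpace n k ↘ Spec (CommRingCat.of k)) := PnCoh.Chow.isProper_toSpec n k
  haveI := CurveCohLib.isNoetherian_of_proper (k := k) (X := CohB1.ProjSpace n k)
  refine dim_support_eq_natDegree (k := k) (Big.isAmple_hyperplane n k) hF hF0 fun m => ?_
  have hFm : Coh.IsCoh (CohB1.tensorMod F (Twist.twistProjSpace n k (m : ℤ))) :=
    isCoh_tw k hF (TauNum.isInvertible_twist _)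
  have h := hP (m : ℤ)
  rw [Int.cast_natCast] at h
  rw [← h]
  show ((Curv2.euler k _ (CohB1.tensorMod F (CohB1.tensorPow (Twist.twistProjSpace n k 1) m)) : ℤ) : ℚ) = _
  rw [euler_cl k (show PicF.cl (CohB1.tensorMod F (CohB1.tensorPow (Twist.twistProjSpace n k 1) m)) =
      PicF.cl (CohB1.tensorMod F (Twist.twistProjSpace n k (m : ℤ))) by
      rw [cl_tensor, cl_tensor, cl_tensorPow, TauNum.cl_twist_natCast]),
    Euler.euler_eq_sum k _ (n + 1) fun q hq => ProjRegular.subsingleton_HH_high hF (m : ℤ) q (by omega)]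
  push_cast
  rfl

end Groth.Agent.NumTau
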