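import Groth.Agent.NumTau.Closed
import Groth.Agent.Bdd.Quotients
import Groth.Agent.Big.Hodge

/-!
# Numerically trivial twists on a projective scheme
-/

set_option autoImplicit false
set_option linter.style.haveILetI false
set_option linter.unusedSectionVars false
set_option backward.isDefEq.respectTransparency false
set_option backward.isDefEq.respectTransparency.types false
set_option maxHeartbeats 1000000
attribute [-instance] CategoryTheory.catToReflQuiver

universe u

open CategoryTheory CategoryTheory.Limits AlgebraicGeometry TopologicalSpace Opposite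
open Groth.Agent.H23.PicMul
open Groth.Agent.RegEpi

noncomputable section

namespace Groth.Agent.NumTau

open Groth.Agent

variable {k : Type u} [Field k] {n : ℕ} {X : Scheme.{u}} [X.Over (Spec (CommRingCat.of k))]
  (i : X ⟶ CohB1.ProjSpace n k) [IsClosedImmersion i] [IsProper (X ↘ Spec (CommRingCat.of k))]

attribute [local instance] FppfPic.HyperPn.projOver'

theorem isAmple_O1 : CohB1.IsAmple (TauNum.O1 i) := by
  letI : (CohB1.ProjSpace n k).Over (Spec (CommRingCat.of k)) :=
    inferInstanceAs ((Proj (CohB1.polyGrading n k)).Over (Spec (CommRingCat.of k)))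
  haveI : IsProper (CohB1.ProjSpace n k ↘ Spec (CommRingCat.of k)) := PnCoh.Chow.isProper_toSpec n k
  exact AmpleDev.isAmple_pullback_finite k i (Big.isAmple_hyperplane n k)

omit [X.Over (Spec (CommRingCat.of k))] [IsClosedImmersion i] [IsProper (X ↘ Spec (CommRingCat.of k))] in
theorem exists_locus_O1 (x : X) : ∃ t : Γ(TauNum.O1 i, (⊤ : X.Opens)), x ∈ AmpleX.locus t := by
  obtain ⟨j, hj⟩ := Opens.mem_iSup.1 ((AmpleEmbed.iSup_basicOpen_X n k).ge (trivial : i x ∈ (⊤ : Opens _)))
  have h : x ∈ H23.TrivBasic.locus (ClosedImmPn.σ i j) := (ClosedImmPn.preimage_D i j).le hj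
  obtain ⟨V, hxV, hVf⟩ := H23.TrivBasic.mem_locus_iff.1 h
  exact ⟨ClosedImmPn.σ i j, AmpleX.le_locus (ClosedImmPn.σ i j) le_top hVf hxV⟩

theorem cl_O1_pow (j : ℕ) :
    PicF.pullCl i (PicF.cl (Twist.twistProjSpace n k (j : ℤ))) = PicF.cl (TauNum.O1 i) ^ j := by
  rw [TauNum.cl_twist_natCast, pullCl_pow]
  rfl

/-- The Euler characteristic of a twist of a direct image to projective space. -/
theorem euler_twF_push (hi : i ≫ CohB1.ProjSpace.toSpec n k = X ↘ Spec (CommRingCat.of k))
    {G : X.Modules} (hG : Coh.IsCoh G) (d : ℤ) :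
    Curv2.euler k (Proj (CohB1.polyGrading n k)) ((twF d).obj ((Scheme.Modules.pushforward i).obj G)) =
      Curv2.euler k X (Pic13.twistOn k i G d) := by
  haveI : IsAffineHom i := inferInstance
  obtain ⟨p⟩ := FppfPic.MReg.push_twist k n i G d
  refine (CurveCohLib.euler_congr (k := k) (X := Proj (CohB1.polyGrading n k)) p).trans ?_
  exact AmpleDev.euler_push k (X := Proj (CohB1.polyGrading n k)) i hi
    (FppfPic.MReg.isQCoh_twistOn k n i G hG d)

/-- Embedded families with a fixed Euler characteristic are uniformly acyclic. -/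
theorem vProp_of_embed [Infinite k] (hi : i ≫ CohB1.ProjSpace.toSpec n k = X ↘ Spec (CommRingCat.of k))
    {F E : X.Modules} (hF : Coh.IsCoh F) (hE : Coh.IsCoh E)
    (hC : ∀ N : X.Modules, PicF.IsInvertible N → CProp k (CohB1.tensorMod F N))
    (hemb : ∀ M, NT k M → ∃ ψ : CohB1.tensorMod F M ⟶ E, Mono ψ) :
    VProp k (TauNum.O1 i) F := by
  haveI := CurveCohLib.isNoetherian_of_proper (k := k) (X := X)
  have hE' : Coh.IsCoh ((Scheme.Modules.pushforward i).obj E) := QCoh.isCoh_pushforward_finite i hE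
  have hF' : Coh.IsCoh ((Scheme.Modules.pushforward i).obj F) := QCoh.isCoh_pushforward_finite i hF
  obtain ⟨m₀, hm₀⟩ := Bdd.exists_reg (k := k) (n := n) hE'
  obtain ⟨ψp, hψp⟩ := Bdd.exists_hasPoly (k := k) (n := n) hE'
  obtain ⟨φp, hφp⟩ := Bdd.exists_hasPoly (k := k) (n := n) hF'
  obtain ⟨R, hR⟩ := Bdd.exists_regularity_bound (k := k) (n := n) (ψp.natDegree + 1) ψp φp m₀
    (Polynomial.degree_le_natDegree.trans_lt (by exact_mod_cast Nat.lt_succ_self _))
  refine ⟨R.toNat, fun M hM j hj q => ?_⟩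
  have hFM : Coh.IsCoh (CohB1.tensorMod F M) := isCoh_tw k hF hM.1
  have hFM' : Coh.IsCoh ((Scheme.Modules.pushforward i).obj (CohB1.tensorMod F M)) :=
    QCoh.isCoh_pushforward_finite i hFM
  obtain ⟨ψ, hψ⟩ := hemb M hM
  haveI := hψ
  have hpoly : Bdd.HasPoly (k := k) (n := n) ((Scheme.Modules.pushforward i).obj (CohB1.tensorMod F M)) φp := fun d => by
    rw [← hφp d, euler_twF_push i hi hFM d, euler_twF_push i hi hF d]
    have hd : PicF.IsInvertible ((Scheme.Modules.pullback i).obj (Twist.twistProjSpace n k d)) :=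
      PicClLib.isInvertible_pullback i (TauNum.isInvertible_twist d)
    refine congrArg Int.cast (Eq.trans ?_ (hC _ hd M hM))
    exact euler_cl k (by unfold Pic13.twistOn; simp only [cl_tensor]; ac_rfl)
  have hreg := hR _ _ ((Scheme.Modules.pushforward i).map ψ) (Functor.map_mono _ ψ) hE' hFM' hm₀ hψp hpoly
  have h := (FppfPic.MReg.hh_iff k n i _ hFM (j : ℤ) (q + 1)).2
    (Bdd.subsingleton_of_reg hFM' hreg (q + 1) (j : ℤ) (by omega) (by
      have := Int.self_le_toNat R
      push_cast
      omega))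
  refine subsingleton_cl ?_ h
  unfold Pic13.twistOn
  rw [cl_tensor, cl_tensor, cl_tensor, cl_tensor, cl_tensorPow, mul_assoc]
  exact congrArg (fun c => PicF.cl F * (PicF.cl M * c)) (cl_O1_pow i j)

theorem exists_mono_comp {Y : Scheme.{u}} {A B C P : Y.Modules} (hP : PicF.IsInvertible P) (φ : A ⟶ B) [Mono φ]
    (ψ : CohB1.tensorMod B P ⟶ C) [Mono ψ] : ∃ χ : CohB1.tensorMod A P ⟶ C, Mono χ := by
  haveI : Mono ((AmpleVan.tw P).map φ) := Big.mono_tw hP φ
  exact ⟨(AmpleVan.tw P).map φ ≫ ψ, mono_comp _ _⟩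

/-- Every coherent module on a projective scheme is good. -/
theorem good [Infinite k] (hi : i ≫ CohB1.ProjSpace.toSpec n k = X ↘ Spec (CommRingCat.of k))
    {F : X.Modules} (hF : Coh.IsCoh F) : Good k (TauNum.O1 i) F := by
  haveI := CurveCohLib.isNoetherian_of_proper (k := k) (X := X)
  have hA := isAmple_O1 i
  refine QCoh.devissage_ideals (Good k (TauNum.O1 i)) (fun M N ⟨e⟩ h => good_of_iso e h)
    (fun M h0 => good_of_isZero hA.1 h0) Set.univ
    (fun S hS h1 h2 h3 p1 p3 => good_of_ses hA.1 hS h1 h2 h3 p1 p3) ?_ hF (Set.subset_univ _)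
  intro ξ _ hsmall Z z _ hZ hr I ι hι hI hI0
  haveI := hι
  haveI : IsNoetherian Z :=
    { __ := LocallyOfFiniteType.isLocallyNoetherian z
      __ := QuasiCompact.compactSpace_of_compactSpace z }
  let W := (Coh.push z).obj (Coh.structureModule Z)
  have hP : Piece (k := k) (TauNum.O1 i) W := piece_push_structure k z hA (exists_locus_O1 i) hr hsmall
  have hξ : z (genericPoint Z) = ξ := by
    have h := QCoh.range_eq_closure z
    rw [hr] at h
    exact ((show IsGenericPoint ξ (closure {ξ}) from rfl).eq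
      (show IsGenericPoint (z (genericPoint Z)) (closure {ξ}) from h.symm)).symm
  haveI : Mono ((Coh.push z).map ι) := Functor.map_mono _ ι
  let φI : (Coh.push z).obj I ⟶ W := (Coh.push z).map ι
  haveI : Mono φI := inferInstanceAs (Mono ((Coh.push z).map ι))
  have hIc : Coh.IsCoh ((Coh.push z).obj I) :=
    QCoh.isCoh_push z (QCoh.isCoh_of_mono ι QCoh.isCoh_structureModule' hI)
  have hQ : Coh.IsCoh (cokernel φI) := QCoh.isCoh_cokernel hIc.1 hP.coh φI
  have hS := Big.shortExact_cokernel φI
  have hQs : ∀ P : X.Modules, PicF.IsInvertible P → Good k (TauNum.O1 i) (CohB1.tensorMod (cokernel φI) P) :=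
    fun P hPi => by
      have hQ' := Big.support_tensorMod_comm (ProjUPX.isQCoh_of_isInvertible hPi) hQ.1
      refine hsmall _ (isCoh_tw k hQ hPi) (hQ'.trans ((QCoh.support_of_epi hP.coh.1 hQ.1 (cokernel.π φI)).trans
        ((QCoh.support_push_subset z QCoh.isQCoh_structureModule).trans hr.le))) fun h => ?_
      exact (QCoh.mem_support_push_ideal z ι hI hI0).2 (hξ.symm ▸ hQ' h)
  have hC : ∀ N : X.Modules, PicF.IsInvertible N → CProp k (CohB1.tensorMod ((Coh.push z).obj I) N) := by
    intro N hN M hM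
    have e1 := euler_ses_tw (k := k) (S := ShortComplex.mk φI (cokernel.π φI) (cokernel.condition φI)) hS hIc hP.coh hQ
      (InvX.isInvertible_tensorMod hN hM.1)
    have e2 := euler_ses_tw (k := k) (S := ShortComplex.mk φI (cokernel.π φI) (cokernel.condition φI)) hS hIc hP.coh hQ hN
    rw [euler_cl k (M := CohB1.tensorMod W (CohB1.tensorMod N M)) (N := CohB1.tensorMod (CohB1.tensorMod W N) M)
        (by simp only [cl_tensor]; rw [mul_assoc]), hP.cProp_tw hA hN M hM,
      euler_cl k (M := CohB1.tensorMod (cokernel φI) (CohB1.tensorMod N M))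
        (N := CohB1.tensorMod (CohB1.tensorMod (cokernel φI) N) M) (by simp only [cl_tensor]; rw [mul_assoc]),
      (hQs N hN).2.1 M hM] at e1
    rw [euler_cl k (N := CohB1.tensorMod ((Coh.push z).obj I) (CohB1.tensorMod N M))
      (by simp only [cl_tensor]; rw [mul_assoc])]
    simp only at e1 e2
    linarith
  refine ⟨?_, ?_, ?_⟩
  · obtain ⟨b, hb⟩ := hP.bound
    exact ⟨b, fun M hM => (h0_mono_tw φI hP.coh hM.1).trans (hb M hM)⟩
  · have h1 := CurveDeg.isInvertible_structureModule (X := X)
    intro M hM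
    refine ((euler_cl k ?_).trans (hC _ h1 M hM)).trans (euler_cl k ?_)
    · simp only [cl_tensor, ← H23.PicMul.one_def, mul_one]
    · simp only [cl_tensor, ← H23.PicMul.one_def, mul_one]
  · obtain ⟨J, hJ⟩ := hP.exists_embed hA
    refine vProp_of_embed i hi hIc (isCoh_tw k hP.coh (InvX.isInvertible_tensorPow hA.1 J)) hC fun M hM => ?_
    obtain ⟨ψ, hψ⟩ := hJ M hM
    haveI := hψ
    exact exists_mono_comp hM.1 φI ψ

end Groth.Agent.NumTau

end
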