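import Groth.Agent.NumTau.Basic

/-!
# The key argument on a generically invertible piece
-/

set_option autoImplicit false
set_option linter.style.haveILetI false
set_option linter.unusedSectionVars false
set_option backward.isDefEq.respectTransparency false
set_option backward.isDefEq.respectTransparency.types false
set_option maxHeartbeats 1000000
attribute [-instance] CategoryTheory.catToReflQuiver

universe u

open CategoryTheory CategoryTheory.Limits AlgebraicGeometry TopologicalSpace Opposite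
open Groth.Agent.H23.PicMul

noncomputable section

namespace Groth.Agent.NumTau

open Groth.Agent

variable {k : Type u} [Field k] {X : Scheme.{u}} [X.Over (Spec (CommRingCat.of k))]
  [IsProper (X ↘ Spec (CommRingCat.of k))]

/-- A map `W ⟶ W ⊗ N` with negligible cokernel. -/
def HasSect (A W N : X.Modules) : Prop :=
  ∃ φ : W ⟶ CohB1.tensorMod W N, Mono φ ∧ GoodTw k A (cokernel φ)

/-- What is needed of a generically invertible piece. -/
structure Piece (A W : X.Modules) : Prop where
  coh : Coh.IsCoh W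
  one : HasSect (k := k) A W A
  sect : ∀ N : X.Modules, PicF.IsInvertible N → ∃ b : ℕ, HasSect (k := k) A W (CohB1.tensorMod N (CohB1.tensorPow A b))
  pos : ∀ N : X.Modules, PicF.IsInvertible N → 0 < Big.h0 k (CohB1.tensorMod W N) →
    ∃ φ : W ⟶ CohB1.tensorMod W N, Mono φ
  bound : BProp k W
  nonzero : ∀ j₀ : ℕ, ∃ j, j₀ ≤ j ∧ 0 < Big.h0 k (CohB1.tensorMod W (CohB1.tensorPow A j))

variable {A W : X.Modules}

/-- Comparison of two twists through a map with negligible cokernel. -/
theorem exists_ses (hW : Coh.IsCoh W) {N : X.Modules} (hN : PicF.IsInvertible N)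
    (h : HasSect (k := k) A W N) :
    ∃ Q : X.Modules, GoodTw k A Q ∧ ∀ P : X.Modules, PicF.IsInvertible P →
      Curv2.euler k X (CohB1.tensorMod W (CohB1.tensorMod N P)) =
        Curv2.euler k X (CohB1.tensorMod W P) + Curv2.euler k X (CohB1.tensorMod Q P) ∧
      Big.h0 k (CohB1.tensorMod W (CohB1.tensorMod N P)) ≤
        Big.h0 k (CohB1.tensorMod W P) + Big.h0 k (CohB1.tensorMod Q P) ∧
      ∀ q, Subsingleton (Coh.HH X (CohB1.tensorMod Q P) q) →
        Subsingleton (Coh.HH X (CohB1.tensorMod W (CohB1.tensorMod N P)) (q + 1)) →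
        Subsingleton (Coh.HH X (CohB1.tensorMod W P) (q + 1)) := by
  obtain ⟨φ, hφ, hQ⟩ := h
  have h2 : Coh.IsCoh (CohB1.tensorMod W N) := isCoh_tw k hW hN
  haveI := CurveCohLib.isNoetherian_of_proper (k := k) (X := X)
  have h3 : Coh.IsCoh (cokernel φ) := QCoh.isCoh_cokernel hW.1 h2 φ
  haveI := hφ
  have hS := Big.shortExact_cokernel φ
  refine ⟨cokernel φ, hQ, fun P hP => ⟨?_, ?_, fun q hq1 hq2 => ?_⟩⟩
  · rw [euler_cl k (N := CohB1.tensorMod (CohB1.tensorMod W N) P) (by simp only [cl_tensor]; rw [mul_assoc])]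
    exact euler_ses_tw (S := ShortComplex.mk φ (cokernel.π φ) (cokernel.condition φ)) hS hW h2 h3 hP
  · refine le_of_eq_of_le (Big.h0_congr_cl k (N := CohB1.tensorMod (CohB1.tensorMod W N) P) ?_) ?_
    · simp only [cl_tensor]; rw [mul_assoc]
    · exact h0_ses_tw (S := ShortComplex.mk φ (cokernel.π φ) (cokernel.condition φ)) hS h2 h3 hP
  · exact CurveVanish.subsingleton_HH_X₁ (S := (ShortComplex.mk φ (cokernel.π φ) (cokernel.condition φ)).map (AmpleVan.tw P))
      (Big.shortExact_tw hS hP) q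
      (subsingleton_cl (N := CohB1.tensorMod (CohB1.tensorMod W N) P) (by simp only [cl_tensor]; rw [mul_assoc]) hq2) hq1

theorem Piece.bound_pow (h : Piece (k := k) A W) (hA : PicF.IsInvertible A) :
    ∀ j : ℕ, ∃ b : ℕ, ∀ M, NT k M → Big.h0 k (CohB1.tensorMod W (CohB1.tensorMod (CohB1.tensorPow A j) M)) ≤ b
  | 0 => by
      obtain ⟨b, hb⟩ := h.bound
      refine ⟨b, fun M hM => le_of_eq_of_le (Big.h0_congr_cl k ?_) (hb M hM)⟩
      simp only [cl_tensor, cl_tensorPow, pow_zero, one_mul]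
  | j + 1 => by
      obtain ⟨b, hb⟩ := h.bound_pow hA j
      obtain ⟨Q, hQ, hses⟩ := exists_ses h.coh hA h.one
      have hAj := InvX.isInvertible_tensorPow hA j
      obtain ⟨c, hc⟩ := (hQ _ hAj).1
      refine ⟨b + c, fun M hM => ?_⟩
      refine le_of_eq_of_le (Big.h0_congr_cl k ?_) ((hses _ (InvX.isInvertible_tensorMod hAj hM.1)).2.1.trans
        (Nat.add_le_add (hb M hM) (le_of_eq_of_le (Big.h0_congr_cl k ?_) (hc M hM))))
      · simp only [cl_tensor, cl_tensorPow, pow_succ]; ac_rfl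
      · simp only [cl_tensor]; ac_rfl

theorem Piece.bProp_tw (h : Piece (k := k) A W) (hA : PicF.IsInvertible A) {N : X.Modules}
    (hN : PicF.IsInvertible N) : BProp k (CohB1.tensorMod W N) := by
  obtain ⟨N', hN', ⟨e⟩⟩ := H23.PicInv.exists_inverse hN
  have hcl : PicF.cl N * PicF.cl N' = 1 := by rw [← cl_tensor, cl_eq_iff.2 ⟨e⟩, H23.PicMul.one_def]
  obtain ⟨b, φ, hφ, -⟩ := h.sect N' hN'
  haveI := hφ
  obtain ⟨c, hc⟩ := h.bound_pow hA b
  refine ⟨c, fun M hM => le_of_eq_of_le (Big.h0_congr_cl k (N := CohB1.tensorMod W (CohB1.tensorMod N M)) ?_) ?_⟩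
  · simp only [cl_tensor]; rw [mul_assoc]
  refine (h0_mono_tw φ (isCoh_tw k h.coh (InvX.isInvertible_tensorMod hN' (InvX.isInvertible_tensorPow hA b)))
    (InvX.isInvertible_tensorMod hN hM.1)).trans (le_of_eq_of_le (Big.h0_congr_cl k ?_) (hc M hM))
  simp only [cl_tensor]
  calc PicF.cl W * (PicF.cl N' * PicF.cl (CohB1.tensorPow A b)) * (PicF.cl N * PicF.cl M)
      = PicF.cl W * (PicF.cl (CohB1.tensorPow A b) * PicF.cl M) * (PicF.cl N * PicF.cl N') := by ac_rfl
    _ = _ := by rw [hcl, mul_one]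

/-- Uniform vanishing in degrees at least two. -/
theorem Piece.exists_vanishing_ge_two (h : Piece (k := k) A W) (hA : CohB1.IsAmple A) {N : X.Modules}
    (hN : PicF.IsInvertible N) : ∃ j₁ : ℕ, ∀ M, NT k M → ∀ j, j₁ ≤ j → ∀ q,
      Subsingleton (Coh.HH X (CohB1.tensorMod W (CohB1.tensorMod N (CohB1.tensorMod M (CohB1.tensorPow A j)))) (q + 2)) := by
  obtain ⟨Q, hQ, hses⟩ := exists_ses h.coh hA.1 h.one
  obtain ⟨-, -, j₁, hj₁⟩ := hQ N hN
  refine ⟨j₁, fun M hM j hj q => ?_⟩
  have hNM := InvX.isInvertible_tensorMod hN hM.1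
  obtain ⟨d₀, hd₀⟩ := AmpleVan.exists_vanishing (A := k) hA (isCoh_tw k h.coh hNM)
  have key : ∀ t j, j₁ ≤ j → d₀ ≤ j + t → Subsingleton (Coh.HH X
      (CohB1.tensorMod W (CohB1.tensorMod N (CohB1.tensorMod M (CohB1.tensorPow A j)))) (q + 2)) := by
    intro t
    induction t with
    | zero =>
      intro j _ hd
      exact subsingleton_cl (by simp only [cl_tensor]; ac_rfl) (hd₀ j (by simpa using hd) (q + 1))
    | succ t ih =>
      intro j hj hd
      refine (hses _ (InvX.isInvertible_tensorMod hN (InvX.isInvertible_tensorMod hM.1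
        (InvX.isInvertible_tensorPow hA.1 j)))).2.2 (q + 1) ?_ ?_
      · exact subsingleton_cl (by simp only [cl_tensor]; ac_rfl) (hj₁ M hM j hj q)
      · exact subsingleton_cl (by simp only [cl_tensor, cl_tensorPow, pow_succ]; ac_rfl)
          (ih (j + 1) (by omega) (by omega))
  exact key d₀ j hj (by omega)

theorem euler_le_h0 {F : X.Modules} (hvan : ∀ q, Subsingleton (Coh.HH X F (q + 2))) :
    Curv2.euler k X F ≤ Big.h0 k F := by
  rw [Euler.euler_eq_sum k F 2 fun i hi => by obtain ⟨q, rfl⟩ := Nat.exists_eq_add_of_le' hi; exact hvan q,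
    Finset.sum_range_succ, Finset.sum_range_one]
  simp [Big.h0]

/-- Euler characteristics of the twists are constant on numerically trivial classes. -/
theorem Piece.cProp_tw (h : Piece (k := k) A W) (hA : CohB1.IsAmple A) {N : X.Modules}
    (hN : PicF.IsInvertible N) : CProp k (CohB1.tensorMod W N) := by
  obtain ⟨j₁, hj₁⟩ := h.exists_vanishing_ge_two hA hN
  obtain ⟨Q, hQ, hses⟩ := exists_ses h.coh hA.1 h.one
  let ef := fun (j : ℕ) (M : X.Modules) =>
    Curv2.euler k X (CohB1.tensorMod W (CohB1.tensorMod N (CohB1.tensorMod M (CohB1.tensorPow A j))))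
  have hstep : ∀ j, ∀ M, NT k M → ef j M = ef 0 M + (ef j (Coh.structureModule X) - ef 0 (Coh.structureModule X)) := by
    intro j
    induction j with
    | zero => intro M _; ring
    | succ j ih =>
      have hNA := InvX.isInvertible_tensorMod hN (InvX.isInvertible_tensorPow hA.1 j)
      have hj' : ∀ M, NT k M → ef (j + 1) M = ef j M +
          Curv2.euler k X (CohB1.tensorMod Q (CohB1.tensorMod N (CohB1.tensorPow A j))) := fun M hM => by
        have e := (hses _ (InvX.isInvertible_tensorMod hNA hM.1)).1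
        rw [euler_cl k (M := CohB1.tensorMod Q (CohB1.tensorMod (CohB1.tensorMod N (CohB1.tensorPow A j)) M))
          (N := CohB1.tensorMod (CohB1.tensorMod Q (CohB1.tensorMod N (CohB1.tensorPow A j))) M)
            (by simp only [cl_tensor]; ac_rfl), (hQ _ hNA).2.1 M hM] at e
        refine ((euler_cl k ?_).trans e).trans (congrArg (· + _) (euler_cl k ?_))
        · simp only [cl_tensor, cl_tensorPow, pow_succ]; ac_rfl
        · simp only [cl_tensor]; ac_rfl
      intro M hM
      rw [hj' M hM, hj' _ nt_one, ih M hM]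
      ring
  obtain ⟨c, hc⟩ : ∃ c : ℤ, ∀ M, NT k M → ef 0 M ≤ c := by
    obtain ⟨b, hb⟩ := h.bProp_tw hA.1 (InvX.isInvertible_tensorMod hN (InvX.isInvertible_tensorPow hA.1 j₁))
    refine ⟨(b : ℤ) - (ef j₁ (Coh.structureModule X) - ef 0 (Coh.structureModule X)), fun M hM => ?_⟩
    have h1 : ef j₁ M ≤ (b : ℤ) := (euler_le_h0 fun q => hj₁ M hM j₁ le_rfl q).trans (by
      exact_mod_cast le_of_eq_of_le (Big.h0_congr_cl k (by simp only [cl_tensor]; ac_rfl)) (hb M hM))
    have h2 := hstep j₁ M hM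
    linarith
  have hdelta : ∀ L, NT k L → ∃ δ : ℤ, ∀ M, NT k M → ef 0 (CohB1.tensorMod M L) = ef 0 M + δ := by
    intro L hL
    obtain ⟨b, hs⟩ := h.sect L hL.1
    have hLA := InvX.isInvertible_tensorMod hL.1 (InvX.isInvertible_tensorPow hA.1 b)
    obtain ⟨R, hR, hses'⟩ := exists_ses h.coh hLA hs
    refine ⟨Curv2.euler k X (CohB1.tensorMod R N) - (ef b (Coh.structureModule X) - ef 0 (Coh.structureModule X)),
      fun M hM => ?_⟩
    have e := (hses' _ (InvX.isInvertible_tensorMod hN hM.1)).1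
    rw [euler_cl k (M := CohB1.tensorMod R (CohB1.tensorMod N M)) (N := CohB1.tensorMod (CohB1.tensorMod R N) M)
      (by simp only [cl_tensor]; rw [mul_assoc]), (hR N hN).2.1 M hM] at e
    have e1 : ef b (CohB1.tensorMod M L) = ef 0 M + Curv2.euler k X (CohB1.tensorMod R N) := by
      refine ((euler_cl k ?_).trans e).trans (congrArg (· + _) (euler_cl k ?_))
      · simp only [cl_tensor]; ac_rfl
      · simp only [cl_tensor, cl_tensorPow, pow_zero, mul_one]
    have e2 := hstep b _ (hM.mul hL)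
    linarith
  have hle : ∀ L, NT k L → ∀ δ : ℤ, (∀ M, NT k M → ef 0 (CohB1.tensorMod M L) = ef 0 M + δ) → δ ≤ 0 := by
    intro L hL δ hδ
    have hpow : ∀ t : ℕ, ef 0 (CohB1.tensorPow L t) = ef 0 (Coh.structureModule X) + t * δ := by
      intro t
      induction t with
      | zero => simp [CohB1.tensorPow]
      | succ t ih =>
        refine ((euler_cl k ?_).trans (hδ _ (hL.pow t))).trans ?_
        · simp only [cl_tensor, cl_tensorPow, pow_succ]
        · rw [ih]; push_cast; ring
    by_contra hcon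
    push Not at hcon
    have h1 := hc _ (hL.pow (c - ef 0 (Coh.structureModule X) + 1).toNat)
    rw [hpow] at h1
    have h2 := Int.self_le_toNat (c - ef 0 (Coh.structureModule X) + 1)
    nlinarith
  intro L hL
  obtain ⟨δ, hδ⟩ := hdelta L hL
  obtain ⟨L', hL', hLL'⟩ := hL.inv
  obtain ⟨δ', hδ'⟩ := hdelta L' hL'
  have a1 : ef 0 L = ef 0 (Coh.structureModule X) + δ := by
    refine (euler_cl k ?_).trans (hδ _ nt_one)
    simp only [cl_tensor, ← H23.PicMul.one_def, one_mul]
  have a2 : ef 0 (Coh.structureModule X) = ef 0 L + δ' := by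
    refine (euler_cl k ?_).trans (hδ' _ hL)
    simp only [cl_tensor, hLL', ← H23.PicMul.one_def]
  have b1 := hle L hL δ hδ
  have b2 := hle L' hL' δ' hδ'
  have a3 : ef 0 L = ef 0 (Coh.structureModule X) := by linarith
  refine ((euler_cl k ?_).trans a3).trans (euler_cl k ?_)
  · simp only [cl_tensor, cl_tensorPow, pow_zero, mul_one]; rw [mul_assoc]
  · simp only [cl_tensor, cl_tensorPow, pow_zero, mul_one, ← H23.PicMul.one_def]

/-- Numerically trivial twists of a piece embed into a fixed twist. -/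
theorem Piece.exists_embed (h : Piece (k := k) A W) (hA : CohB1.IsAmple A) :
    ∃ J : ℕ, ∀ M, NT k M → ∃ φ : CohB1.tensorMod W M ⟶ CohB1.tensorMod W (CohB1.tensorPow A J), Mono φ := by
  have h1 := CurveDeg.isInvertible_structureModule (X := X)
  obtain ⟨j₁, hj₁⟩ := h.exists_vanishing_ge_two hA h1
  obtain ⟨n₀, hn₀⟩ := AmpleVan.exists_vanishing (A := k) hA h.coh
  obtain ⟨J, hJ, hJ0⟩ := h.nonzero (max j₁ n₀)
  have hAJ := InvX.isInvertible_tensorPow hA.1 J
  refine ⟨J, fun M hM => ?_⟩
  obtain ⟨M', hM', hMM'⟩ := hM.inv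
  have hpos : 0 < Big.h0 k (CohB1.tensorMod W (CohB1.tensorMod M' (CohB1.tensorPow A J))) := by
    have e1 := euler_le_h0 (k := k) (F := CohB1.tensorMod W (CohB1.tensorMod M' (CohB1.tensorPow A J))) fun q =>
      subsingleton_cl (by simp only [cl_tensor, ← H23.PicMul.one_def, one_mul])
        (hj₁ M' hM' J ((le_max_left _ _).trans hJ) q)
    have e2 := h.cProp_tw hA hAJ M' hM'
    have e3 : Curv2.euler k X (CohB1.tensorMod W (CohB1.tensorPow A J)) =
        (Big.h0 k (CohB1.tensorMod W (CohB1.tensorPow A J)) : ℤ) := by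
      rw [Euler.euler_eq_sum k _ 1 fun i hi => by
        obtain ⟨q, rfl⟩ := Nat.exists_eq_add_of_le' hi; exact hn₀ J ((le_max_right _ _).trans hJ) q]
      simp [Big.h0]
    rw [euler_cl k (N := CohB1.tensorMod (CohB1.tensorMod W (CohB1.tensorPow A J)) M')
      (by simp only [cl_tensor]; ac_rfl), e2, e3] at e1
    omega
  obtain ⟨φ, hφ⟩ := h.pos _ (InvX.isInvertible_tensorMod hM'.1 hAJ) hpos
  haveI := hφ
  haveI : Mono ((AmpleVan.tw M).map φ) := Big.mono_tw hM.1 φ
  obtain ⟨e⟩ : Nonempty (CohB1.tensorMod (CohB1.tensorMod W (CohB1.tensorMod M' (CohB1.tensorPow A J))) M ≅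
      CohB1.tensorMod W (CohB1.tensorPow A J)) := cl_eq_iff.1 (by
    simp only [cl_tensor]
    calc PicF.cl W * (PicF.cl M' * PicF.cl (CohB1.tensorPow A J)) * PicF.cl M
        = PicF.cl W * PicF.cl (CohB1.tensorPow A J) * (PicF.cl M * PicF.cl M') := by ac_rfl
      _ = _ := by rw [hMM', mul_one])
  exact ⟨(AmpleVan.tw M).map φ ≫ e.hom, mono_comp _ _⟩

end Groth.Agent.NumTau

end
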