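import Groth.Agent.NumTau.Cor
import Groth.Agent.NumTau.Section
import Groth.Agent.Nakai.KleimanDeg
import Groth.Agent.Nakai.Corollaries
import Groth.Agent.CohBasic.EulerBC
import Groth.Agent.HilbSnap.GeClosed
import Groth.Agent.H9ProperSupp.Existence

/-!
# Numerical triviality on proper schemes over arbitrary fields
-/

set_option autoImplicit false
set_option linter.style.haveILetI false
set_option linter.unusedSectionVars false
set_option backward.isDefEq.respectTransparency false
set_option backward.isDefEq.respectTransparency.types false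
set_option maxHeartbeats 1000000
attribute [-instance] CategoryTheory.catToReflQuiver

universe u

open CategoryTheory CategoryTheory.Limits AlgebraicGeometry TopologicalSpace Opposite
open Groth.Agent.H23.PicMul

noncomputable section

namespace Groth.Agent.NumTau

open Groth.Agent

variable {k : Type u} [Field k] {X : Scheme.{u}} [X.Over (Spec (CommRingCat.of k))]
  [IsProper (X ↘ Spec (CommRingCat.of k))]

theorem NT.pullback {Y : Scheme.{u}} [Y.Over (Spec (CommRingCat.of k))] [IsProper (Y ↘ Spec (CommRingCat.of k))]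
    (f : Y ⟶ X) (hf : f ≫ (X ↘ Spec (CommRingCat.of k)) = Y ↘ Spec (CommRingCat.of k))
    {L : X.Modules} (h : NT k L) : NT k ((Scheme.Modules.pullback f).obj L) := by
  obtain ⟨hL, hn, L', hL', hn', e⟩ := h
  exact ⟨PicClLib.isInvertible_pullback f hL, hn.pullback_proper k f hf hL, _,
    PicClLib.isInvertible_pullback f hL', hn'.pullback_proper k f hf hL', Big.cl_pull_one f e⟩

theorem NT.of_surjective {Y : Scheme.{u}} [Y.Over (Spec (CommRingCat.of k))] [IsProper (Y ↘ Spec (CommRingCat.of k))]
    (f : Y ⟶ X) (hf : f ≫ (X ↘ Spec (CommRingCat.of k)) = Y ↘ Spec (CommRingCat.of k)) [Surjective f]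
    {L : X.Modules} (hL : PicF.IsInvertible L) (h : NT k ((Scheme.Modules.pullback f).obj L)) : NT k L := by
  obtain ⟨-, hn, N, hN, hnN, e⟩ := h
  obtain ⟨L', hL', ⟨φ⟩⟩ := H23.PicInv.exists_inverse hL
  have e' : PicF.cl L * PicF.cl L' = 1 := by rw [← cl_tensor, cl_eq_iff.2 ⟨φ⟩, H23.PicMul.one_def]
  have hcl : PicF.cl N = PicF.cl ((Scheme.Modules.pullback f).obj L') := by
    have h' := Big.cl_pull_one f e'
    calc PicF.cl N
        = PicF.cl N * (PicF.cl ((Scheme.Modules.pullback f).obj L) * PicF.cl ((Scheme.Modules.pullback f).obj L')) := by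
          rw [h', mul_one]
      _ = (PicF.cl ((Scheme.Modules.pullback f).obj L) * PicF.cl N) * PicF.cl ((Scheme.Modules.pullback f).obj L') := by
          ac_rfl
      _ = _ := by rw [e, one_mul]
  exact ⟨hL, Nakai.Nef.of_surjective k f hf hL hn, L', hL',
    Nakai.Nef.of_surjective k f hf hL' (Big.nef_of_cl k hcl hnN), e'⟩

/-- A proper scheme is dominated by a projective one. -/
theorem exists_projective_cover (k : Type u) [Field k] (X : Scheme.{u}) [X.Over (Spec (CommRingCat.of k))]
    [IsProper (X ↘ Spec (CommRingCat.of k))] :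
    ∃ (Z : Scheme.{u}) (π : Z ⟶ X) (_ : IsProper π) (_ : Surjective π) (A : Z.Modules), CohB1.IsAmple A := by
  haveI := CurveCohLib.isNoetherian_of_proper (k := k) (X := X)
  haveI : IsNoetherian (Spec (CommRingCat.of k)) := inferInstance
  obtain ⟨n, X', π, j, hj, hjc, hπ, hs, -⟩ := S0025.result (X ↘ Spec (CommRingCat.of k))
  haveI := hj
  haveI := hπ
  letI : X'.Over (Spec (CommRingCat.of k)) := ⟨π ≫ (X ↘ Spec (CommRingCat.of k))⟩
  haveI : IsProper (j ≫ CohB1.ProjSpaceOver.toBase n (Spec (CommRingCat.of k))) := by rw [hjc]; infer_instance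
  obtain ⟨e, he⟩ := PicGlue.exists_projSpace_iso n k
  haveI : IsProper (CohB1.ProjSpace.toSpec n k) := PnCoh.Chow.isProper_toSpec n k
  haveI : IsProper (CohB1.ProjSpaceOver.toBase n (Spec (CommRingCat.of k))) := by
    rw [← e.inv_hom_id_assoc (CohB1.ProjSpaceOver.toBase n (Spec (CommRingCat.of k))), he]
    infer_instance
  haveI : IsProper j := IsProper.of_comp j (CohB1.ProjSpaceOver.toBase n (Spec (CommRingCat.of k)))
  haveI : IsClosedImmersion j := IsClosedImmersion.of_isPreimmersion j (by
    rw [← Set.image_univ]; exact j.isClosedMap _ isClosed_univ)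
  obtain ⟨A, hA⟩ := AmpleVan.exists_ample_of_closedImmersion_projSpace (A := k) (j ≫ e.inv)
  exact ⟨X', π, hπ, hs, A, hA⟩

/-- Numerical triviality is stable under extensions of the ground field, projective case. -/
theorem nt_bc_projective {E : Type u} [Field E] [Algebra k E] {Y : Scheme.{u}} [Y.Over (Spec (CommRingCat.of E))]
    [IsProper (Y ↘ Spec (CommRingCat.of E))] (q : Y ⟶ X)
    (hq : IsPullback q (Y ↘ Spec (CommRingCat.of E)) (X ↘ Spec (CommRingCat.of k))
      (Spec.map (CommRingCat.ofHom (algebraMap k E))))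
    {A : X.Modules} (hA : CohB1.IsAmple A) {L : X.Modules} (h : NT k L) :
    NT E ((Scheme.Modules.pullback q).obj L) := by
  have key : ∀ {M : X.Modules}, PicF.IsInvertible M → Nakai.Nef k M →
      Nakai.Nef E ((Scheme.Modules.pullback q).obj M) := fun {M} hM hn => by
    refine Nakai.nef_of_isAmple E (PicClLib.isInvertible_pullback q hM) (PicClLib.isInvertible_pullback q hA.1)
      fun ν _ => ?_
    refine AmpleX.isAmple_of_iso (cl_eq_iff.1 ?_).some
      (HilbSnap.isAmple_of_affine_square hq (Nakai.isAmple_tensor_of_nef k hM hn hA ν))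
    show PicF.pullCl q (PicF.cl (CohB1.tensorMod (CohB1.tensorPow M ν) A)) = _
    rw [cl_tensor, cl_tensor, cl_tensorPow, cl_tensorPow, pullCl_mul, pullCl_pow]
    rfl
  obtain ⟨hL, hn, L', hL', hn', e⟩ := h
  exact ⟨PicClLib.isInvertible_pullback q hL, key hL hn, _, PicClLib.isInvertible_pullback q hL', key hL' hn',
    Big.cl_pull_one q e⟩

/-- Numerical triviality is stable under extensions of the ground field. -/
theorem nt_bc {E : Type u} [Field E] [Algebra k E] {Y : Scheme.{u}} [Y.Over (Spec (CommRingCat.of E))]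
    [IsProper (Y ↘ Spec (CommRingCat.of E))] (q : Y ⟶ X)
    (hq : IsPullback q (Y ↘ Spec (CommRingCat.of E)) (X ↘ Spec (CommRingCat.of k))
      (Spec.map (CommRingCat.ofHom (algebraMap k E))))
    {L : X.Modules} (h : NT k L) : NT E ((Scheme.Modules.pullback q).obj L) := by
  obtain ⟨Z, π, hπ, hs, A, hA⟩ := exists_projective_cover k X
  haveI := hπ
  haveI := hs
  letI : Z.Over (Spec (CommRingCat.of k)) := ⟨π ≫ (X ↘ Spec (CommRingCat.of k))⟩
  haveI : IsProper (Z ↘ Spec (CommRingCat.of k)) := inferInstanceAs (IsProper (π ≫ (X ↘ Spec (CommRingCat.of k))))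
  let Z' := Limits.pullback π q
  letI : Z'.Over (Spec (CommRingCat.of E)) := ⟨Limits.pullback.snd π q ≫ (Y ↘ Spec (CommRingCat.of E))⟩
  haveI : IsProper (Z' ↘ Spec (CommRingCat.of E)) :=
    inferInstanceAs (IsProper (Limits.pullback.snd π q ≫ (Y ↘ Spec (CommRingCat.of E))))
  have hsq : IsPullback (Limits.pullback.fst π q) (Z' ↘ Spec (CommRingCat.of E)) (Z ↘ Spec (CommRingCat.of k))
      (Spec.map (CommRingCat.ofHom (algebraMap k E))) := (IsPullback.of_hasPullback π q).paste_vert hq
  have hZ := nt_bc_projective (Limits.pullback.fst π q) hsq hA (h.pullback π rfl)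
  refine NT.of_surjective (Limits.pullback.snd π q) rfl (PicClLib.isInvertible_pullback q h.1) ?_
  have e : PicF.cl ((Scheme.Modules.pullback (Limits.pullback.fst π q)).obj ((Scheme.Modules.pullback π).obj L)) =
      PicF.cl ((Scheme.Modules.pullback (Limits.pullback.snd π q)).obj ((Scheme.Modules.pullback q).obj L)) :=
    cl_eq_iff.2 ⟨(Scheme.Modules.pullbackComp _ _).app L ≪≫
      (Scheme.Modules.pullbackCongr Limits.pullback.condition).app L ≪≫
      ((Scheme.Modules.pullbackComp _ _).app L).symm⟩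
  obtain ⟨-, hn, N, hN, hnN, eN⟩ := hZ
  exact ⟨PicClLib.isInvertible_pullback _ (PicClLib.isInvertible_pullback q h.1), Big.nef_of_cl E e hn, N, hN, hnN,
    by rw [← e]; exact eN⟩

/-- Euler characteristics of numerically trivial twists on a projective scheme over any field. -/
theorem euler_eq_projective {A : X.Modules} (hA : CohB1.IsAmple A) {F : X.Modules} (hF : Coh.IsCoh F)
    {L : X.Modules} (hL : NT k L) :
    Curv2.euler k X (CohB1.tensorMod F L) = Curv2.euler k X F := by
  let K := AlgebraicClosure k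
  letI : (Curv2.bc k X K).Over (Spec (CommRingCat.of K)) := ⟨Curv2.bcSnd k X K⟩
  haveI : IsProper ((Curv2.bc k X K) ↘ Spec (CommRingCat.of K)) := inferInstanceAs (IsProper (Curv2.bcSnd k X K))
  haveI := CurveCohLib.isNoetherian_of_proper (k := k) (X := X)
  haveI := CurveCohLib.isNoetherian_of_proper (k := K) (X := Curv2.bc k X K)
  have hq : IsPullback (Curv2.bcFst k X K) ((Curv2.bc k X K) ↘ Spec (CommRingCat.of K))
      (X ↘ Spec (CommRingCat.of k)) (Spec.map (CommRingCat.ofHom (algebraMap k K))) := IsPullback.of_hasPullback _ _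
  have hFL := isCoh_tw k hF hL.1
  rw [← CohBasic.euler_bc k X K hFL.1, ← CohBasic.euler_bc k X K hF.1,
    ← euler_eq (HilbSnap.isAmple_of_affine_square hq hA) (show Coh.IsCoh ((Scheme.Modules.pullback (Curv2.bcFst k X K)).obj F) from
      ⟨QCoh.isQCoh_pullback _ hF.1, QCoh.isFT_pullback _ hF.1 hF.2⟩)
      (nt_bc_projective (Curv2.bcFst k X K) hq hA hL)]
  refine euler_cl K ?_
  show PicF.pullCl _ (PicF.cl (CohB1.tensorMod F L)) = _
  rw [cl_tensor, cl_tensor, pullCl_mul]
  rfl

/-- Euler characteristics of numerically trivial twists on a proper scheme. -/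
theorem euler_eq_proper {F : X.Modules} (hF : Coh.IsCoh F) {L : X.Modules} (hL : NT k L) :
    Curv2.euler k X (CohB1.tensorMod F L) = Curv2.euler k X F := by
  haveI := CurveCohLib.isNoetherian_of_proper (k := k) (X := X)
  have hiso : ∀ M N : X.Modules, Nonempty (M ≅ N) →
      Curv2.euler k X (CohB1.tensorMod M L) = Curv2.euler k X M →
      Curv2.euler k X (CohB1.tensorMod N L) = Curv2.euler k X N := fun M N ⟨e⟩ h => by
    rw [euler_cl k (show PicF.cl (CohB1.tensorMod N L) = PicF.cl (CohB1.tensorMod M L) by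
      rw [cl_tensor, cl_tensor, cl_eq_iff.2 ⟨e⟩]), h, euler_cl k (cl_eq_iff.2 ⟨e⟩)]
  have h23 : ∀ {S : ShortComplex X.Modules}, S.ShortExact → Coh.IsCoh S.X₁ → Coh.IsCoh S.X₂ → Coh.IsCoh S.X₃ →
      Curv2.euler k X (CohB1.tensorMod S.X₂ L) - Curv2.euler k X S.X₂ =
        (Curv2.euler k X (CohB1.tensorMod S.X₁ L) - Curv2.euler k X S.X₁) +
          (Curv2.euler k X (CohB1.tensorMod S.X₃ L) - Curv2.euler k X S.X₃) := fun {S} hS a b c => by
    rw [euler_ses_tw hS a b c hL.1, CurveCohLib.euler_additive (k := k) hS a b c]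
    ring
  refine QCoh.devissage (fun M => Curv2.euler k X (CohB1.tensorMod M L) = Curv2.euler k X M) hiso
    (fun M h0 => ?_) Set.univ (fun S hS a b c _ p1 p3 => ?_) (fun ξ _ hsmall Z i _ _ hr => ?_)
    (fun S hS a b c _ p2 p3 => ?_) hF (Set.subset_univ _)
  · have h1 : IsZero (CohB1.tensorMod M L) := Functor.map_isZero (AmpleVan.tw L) h0
    exact CurveCohLib.euler_congr (k := k) (h1.iso h0)
  · have := h23 hS a b c; linarith
  · letI : Z.Over (Spec (CommRingCat.of k)) := ⟨i ≫ (X ↘ Spec (CommRingCat.of k))⟩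
    haveI : IsProper (Z ↘ Spec (CommRingCat.of k)) := inferInstanceAs (IsProper (i ≫ (X ↘ Spec (CommRingCat.of k))))
    haveI := CurveCohLib.isNoetherian_of_proper (k := k) (X := Z)
    let LZ := (Scheme.Modules.pullback i).obj L
    have hLZ : NT k LZ := hL.pullback i rfl
    have hpush : ∀ {N : Z.Modules}, Coh.IsQCoh N →
        (Curv2.euler k Z (CohB1.tensorMod N LZ) = Curv2.euler k Z N ↔
          Curv2.euler k X (CohB1.tensorMod ((Coh.push i).obj N) L) = Curv2.euler k X ((Coh.push i).obj N)) := by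
      intro N hN
      obtain ⟨e⟩ := AmpleDev.push_tensor_iso i hL.1 N
      rw [CurveCohLib.euler_congr (k := k) e,
        AmpleDev.euler_push k i rfl (CohBasic.isQCoh_tensorMod hN (ProjUPX.isQCoh_of_isInvertible hLZ.1)),
        AmpleDev.euler_push k i rfl hN]
    refine (hpush QCoh.isQCoh_structureModule).1 ?_
    have hξ : i (genericPoint Z) = ξ :=
      ((show Specializes (i (genericPoint Z)) ξ from specializes_iff_mem_closure.2
        ((QCoh.range_eq_closure i).le (hr.ge (subset_closure rfl)))).antisymm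
      (specializes_iff_mem_closure.2 (hr.le ⟨_, rfl⟩))).eq
    obtain ⟨d, hd⟩ : ∃ d : ℕ, topologicalKrullDim Z = d :=
      ⟨_, VarDim.topologicalKrullDim_eq_deg_genericPoint (Z ↘ Spec (CommRingCat.of k))⟩
    obtain ⟨W, hW, π, hπ, hgen, hWd, hdeg, A, hA⟩ := Nakai.exists_chow k Z hd
    letI : W.Over (Spec (CommRingCat.of k)) := ⟨π ≫ (Z ↘ Spec (CommRingCat.of k))⟩
    haveI : IsProper (W ↘ Spec (CommRingCat.of k)) := inferInstanceAs (IsProper (π ≫ (Z ↘ Spec (CommRingCat.of k))))
    haveI := CurveCohLib.isNoetherian_of_proper (k := k) (X := W)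
    obtain ⟨m₀, hm₀⟩ := Nakai.exists_euler_push k π rfl hA (QCoh.isCoh_structureModule' (X := W))
      (L := (![LZ] : Fin 1 → Z.Modules)) (fun j => by fin_cases j; exact hLZ.1)
    obtain ⟨a, ha, s, hs, -⟩ := (AmpleX.isAmple_iff.1 hA).2.2 (genericPoint W)
    let m := a * (m₀ + 1)
    obtain ⟨hcoh, heul⟩ := hm₀ m ((Nat.le_succ _).trans (Nat.le_mul_of_pos_left _ ha))
    let M := CohB1.tensorMod (Coh.structureModule W) (CohB1.tensorPow A m)
    have hMi : PicF.IsInvertible M := Nakai.isInvertible_tensor_structure (InvX.isInvertible_tensorPow hA.1 m)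
    obtain ⟨t, ht⟩ := AmpleX.exists_section_of_cl_eq (B := M)
      (by rw [cl_tensor, ← H23.PicMul.one_def, one_mul, cl_tensorPow, cl_tensorPow, cl_tensorPow, ← pow_mul])
      (InvX.powHom s (m₀ + 1))
    have htgen : genericPoint W ∈ CohB1.genLocus M t := by
      rw [ht, InvX.genLocus_powHom (InvX.isInvertible_tensorPow hA.1 a) s m₀]
      exact hs
    have ht0 : t ≠ 0 := Nakai.ne_zero_of_mem_genLocus' htgen
    let G := (Coh.push π).obj M
    have hlen : Module.length (Z.presheaf.stalk (genericPoint Z)) (G.presheaf.stalk (genericPoint Z)) = 1 := by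
      have h := Nakai.len_push_invertible π hgen
        (fun y hy => Nakai.eq_generic_of_map_eq π π.isClosedMap hWd hd hy) hMi t ht0
      rw [hdeg, Nat.cast_one, Snapper.len] at h
      have h1 : (Module.length (Z.presheaf.stalk (genericPoint Z)) (G.presheaf.stalk (genericPoint Z))).toNat = 1 := by
        exact_mod_cast h
      exact (ENat.toNat_eq_iff one_ne_zero).1 h1
    have hPG : Curv2.euler k Z (CohB1.tensorMod G LZ) = Curv2.euler k Z G := by
      have h1 := heul LZ (fun _ => 1) hLZ.1 (by simp)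
      have h0 := heul (Coh.structureModule Z) (fun _ => 0) CurveDeg.isInvertible_structureModule
        (by simp [← H23.PicMul.one_def])
      rw [← h1, euler_eq_projective hA (AmpleVan.isCoh_invertible hMi) (hLZ.pullback π rfl)]
      refine Eq.trans ?_ ((h0.trans (euler_cl k (by rw [cl_tensor, ← H23.PicMul.one_def, mul_one]))))
      refine euler_cl k ?_
      show PicF.cl M = PicF.cl (CohB1.tensorMod M _)
      rw [cl_tensor M, show PicF.cl ((Scheme.Modules.pullback π).obj (Coh.structureModule Z)) =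
        PicF.pullCl π (PicF.cl (Coh.structureModule Z)) from rfl, ← H23.PicMul.one_def, pullCl_one, mul_one]
    have hsupp : genericPoint Z ∈ CohB1.support G := fun hs' => by
      haveI := hs'
      rw [Module.length_eq_zero] at hlen
      exact zero_ne_one hlen
    have hgenc : closure ({genericPoint Z} : Set Z) = Set.univ := (genericPoint_spec Z).def
    have hfinal := QCoh.push_structure_of_simple
      (fun N => Curv2.euler k Z (CohB1.tensorMod N LZ) = Curv2.euler k Z N)
      (fun M N ⟨e⟩ h => by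
        rw [euler_cl k (show PicF.cl (CohB1.tensorMod N LZ) = PicF.cl (CohB1.tensorMod M LZ) by
          rw [cl_tensor, cl_tensor, cl_eq_iff.2 ⟨e⟩]), h, euler_cl k (cl_eq_iff.2 ⟨e⟩)])
      (genericPoint Z) (fun S hS a b c _ => ?_) (fun N hN _ hN' => ?_) (G := G) hcoh
      (hgenc ▸ Set.subset_univ _) hsupp (QCoh.simpleAt_of_length hcoh.1 _ hlen) hPG
      (𝟙 Z) (by rw [hgenc]; exact Set.range_id)
    · have e : (Coh.push (𝟙 Z)).obj (Coh.structureModule Z) ≅ Coh.structureModule Z :=
        (Scheme.Modules.pushforwardId Z).app _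
      rwa [euler_cl k (show PicF.cl (CohB1.tensorMod ((Coh.push (𝟙 Z)).obj (Coh.structureModule Z)) LZ) =
        PicF.cl (CohB1.tensorMod (Coh.structureModule Z) LZ) by rw [cl_tensor, cl_tensor, cl_eq_iff.2 ⟨e⟩]),
        euler_cl k (cl_eq_iff.2 ⟨e⟩)] at hfinal
    · have e1 := euler_ses_tw (k := k) hS a b c hLZ.1
      have e2 := CurveCohLib.euler_additive (k := k) hS a b c
      exact ⟨fun p1 p2 => by linarith, fun p1 p3 => by linarith, fun p2 p3 => by linarith⟩
    · refine (hpush hN.1).2 (hsmall _ (QCoh.isCoh_push i hN) ?_ ?_)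
      · exact (QCoh.support_push_subset i hN.1).trans hr.le
      · intro hmem
        obtain ⟨z, hz, hzx⟩ := H9ProperSupp.support_push_subset_of_closed i (F := N) (QCoh.isCoh_push i hN).1
          (C := i '' CohB1.support N) (i.isClosedMap _ (QCoh.isClosed_support_of_isFT hN.1 hN.2))
          (fun x hx => ⟨x, hx, rfl⟩) hmem
        exact hN' (i.isClosedEmbedding.injective (hzx.trans hξ.symm) ▸ hz)
  · have := h23 hS a b c; linarith

end Groth.Agent.NumTau

namespace Groth.Agent.NumTau

open Groth.Agent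

variable {k : Type u} [Field k] {X : Scheme.{u}} [X.Over (Spec (CommRingCat.of k))]
  [IsProper (X ↘ Spec (CommRingCat.of k))]

theorem numEquivZero_of_cdeg {L : X.Modules} (hL : PicF.IsInvertible L)
    (h : ∀ (Y : Scheme.{u}) (ι : Y ⟶ X) [IsClosedImmersion ι], IsIntegral Y → topologicalKrullDim Y = 1 →
      Big.cdeg k ι L = 0) : Pic13.IsNumEquivZero k X L := fun Y ι _ hY hd => by
  have h1 : (Pic13.curveDeg k (ι ≫ (X ↘ Spec (CommRingCat.of k))) ((Scheme.Modules.pullback ι).obj L) : ℚ) = 0 :=
    (Big.curveDeg_eq k ι hd.le hL).trans (h Y ι hY hd)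
  exact_mod_cast h1

theorem numEquivZero_of_nt {L : X.Modules} (h : NT k L) : Pic13.IsNumEquivZero k X L :=
  numEquivZero_of_cdeg h.1 fun Y ι _ hY hd => numTriv_of_nt k h Y ι hY hd

/-- Numerical triviality through Euler characteristics. -/
theorem numEquivZero_iff_euler {L : X.Modules} (hL : PicF.IsInvertible L) :
    Pic13.IsNumEquivZero k X L ↔
      ∀ F : X.Modules, Coh.IsCoh F → Curv2.euler k X (CohB1.tensorMod F L) = Curv2.euler k X F := by
  refine ⟨fun h F hF => euler_eq_proper hF (nt_of_numEquivZero hL h),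
    fun h => numEquivZero_of_cdeg hL fun Y ι _ hY hd => ?_⟩
  haveI := CurveCohLib.isNoetherian_of_proper (k := k) (X := X)
  haveI : IsNoetherian Y :=
    { __ := LocallyOfFiniteType.isLocallyNoetherian ι
      __ := QuasiCompact.compactSpace_of_compactSpace ι }
  rw [Big.cdeg_eq, h _ (QCoh.isCoh_push ι QCoh.isCoh_structureModule'), sub_self]

end Groth.Agent.NumTau

namespace Groth.Agent.NumTau

open Groth.Agent

/-- Numerical triviality does not depend on the ground field. -/
theorem numEquivZero_bc_iff (k : Type u) [Field k] (X : Scheme.{u}) [X.Over (Spec (CommRingCat.of k))]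
    [IsProper (X ↘ Spec (CommRingCat.of k))] (L : X.Modules) (hL : PicF.IsInvertible L)
    (E : Type u) [Field E] [Algebra k E] :
    Pic13.IsNumEquivZero k X L ↔
      @Pic13.IsNumEquivZero E _ (Curv2.bc k X E) ⟨Curv2.bcSnd k X E⟩
        ((Scheme.Modules.pullback (Curv2.bcFst k X E)).obj L) := by
  letI : (Curv2.bc k X E).Over (Spec (CommRingCat.of E)) := ⟨Curv2.bcSnd k X E⟩
  haveI : IsProper ((Curv2.bc k X E) ↘ Spec (CommRingCat.of E)) := inferInstanceAs (IsProper (Curv2.bcSnd k X E))
  have hLE := PicClLib.isInvertible_pullback (Curv2.bcFst k X E) hL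
  refine ⟨fun h => numEquivZero_of_nt (nt_bc (Curv2.bcFst k X E) (IsPullback.of_hasPullback _ _)
    (nt_of_numEquivZero hL h)), fun h => (numEquivZero_iff_euler hL).2 fun F hF => ?_⟩
  have hFE : Coh.IsCoh ((Scheme.Modules.pullback (Curv2.bcFst k X E)).obj F) :=
    ⟨QCoh.isQCoh_pullback _ hF.1, QCoh.isFT_pullback _ hF.1 hF.2⟩
  rw [← CohBasic.euler_bc k X E (isCoh_tw k hF hL).1, ← CohBasic.euler_bc k X E hF.1,
    ← euler_eq_proper (k := E) hFE (nt_of_numEquivZero hLE h)]
  refine euler_cl E ?_
  show PicF.pullCl _ (PicF.cl (CohB1.tensorMod F L)) = _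
  rw [cl_tensor, cl_tensor, pullCl_mul]
  rfl

end Groth.Agent.NumTau
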