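import Groth.Agent.NumTau.Section
import Groth.Agent.NumTau.Main

/-!
# Sections of modules of nonpositive degree
-/

set_option autoImplicit false
set_option linter.style.haveILetI false
set_option linter.unusedSectionVars false
set_option backward.isDefEq.respectTransparency false
set_option backward.isDefEq.respectTransparency.types false
set_option maxHeartbeats 1000000
attribute [-instance] CategoryTheory.catToReflQuiver

universe u

open CategoryTheory CategoryTheory.Limits AlgebraicGeometry TopologicalSpace Opposite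
open Groth.Agent.H23.PicMul

noncomputable section

namespace Groth.Agent.NumTau

open Groth.Agent

theorem iso_of_deg_nonpos (k : Type u) [Field k] (n : ℕ) {X : Scheme.{u}} [X.Over (Spec (CommRingCat.of k))]
    [IsProper (X ↘ Spec (CommRingCat.of k))] (i : X ⟶ CohB1.ProjSpace n k) [IsClosedImmersion i]
    (hi : i ≫ CohB1.ProjSpace.toSpec n k = X ↘ Spec (CommRingCat.of k))
    [IsIntegral X] (s : ℕ) (hdim : topologicalKrullDim X = (s + 1 : ℕ))
    (L L' : X.Modules) (hL : PicF.IsInvertible L) (e : CohB1.tensorMod L L' ≅ Coh.structureModule X)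
    (hdeg : FGA.intNum k X (s + 1)
      (Matrix.vecCons L' (fun _ : Fin s => (Scheme.Modules.pullback i).obj (Twist.twistProjSpace n k (-1))))
      (Coh.structureModule X) ≤ 0)
    (hsec : Nontrivial (Coh.HH X L 0)) :
    Nonempty (L ≅ Coh.structureModule X) := by
  haveI := CurveCohLib.isNoetherian_of_proper (k := k) (X := X)
  obtain ⟨L'', hL'', ⟨φ⟩⟩ := H23.PicInv.exists_inverse hL
  have hLL : PicF.cl L * PicF.cl L' = 1 := by rw [← cl_tensor, cl_eq_iff.2 ⟨e⟩, H23.PicMul.one_def]
  have hLL2 : PicF.cl L * PicF.cl L'' = 1 := by rw [← cl_tensor, cl_eq_iff.2 ⟨φ⟩, H23.PicMul.one_def]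
  have heq : PicF.cl L' = PicF.cl L'' := by
    calc PicF.cl L' = PicF.cl L' * (PicF.cl L * PicF.cl L'') := by rw [hLL2, mul_one]
      _ = (PicF.cl L * PicF.cl L') * PicF.cl L'' := by ac_rfl
      _ = PicF.cl L'' := by rw [hLL, one_mul]
  have hL' : PicF.IsInvertible L' := H23.PicMul.isInvertible_of_iso (cl_eq_iff.1 heq).some.symm hL''
  let N1 := (Scheme.Modules.pullback i).obj (Twist.twistProjSpace n k (-1))
  have hN1 : PicF.IsInvertible N1 := PicClLib.isInvertible_pullback i (TauNum.isInvertible_twist (-1))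
  have hAN : PicF.cl (TauNum.O1 i) * PicF.cl N1 = 1 := by
    show PicF.pullCl i (PicF.cl _) * PicF.pullCl i (PicF.cl _) = 1
    rw [← pullCl_mul, TauNum.cl_twist_add, show (1 : ℤ) + -1 = ((0 : ℕ) : ℤ) from rfl, TauNum.cl_twist_natCast,
      pow_zero, pullCl_one]
  obtain ⟨σ, hσ⟩ : ∃ σ : Coh.structureModule X ⟶ L, σ ≠ 0 := by
    refine Big.exists_hom_of_h0_pos k (M := L) ?_
    haveI := hsec
    haveI := CurveCohLib.finite_HH (k := k) (AmpleVan.isCoh_invertible hL) 0
    exact Module.finrank_pos
  suffices hiso : IsIso σ by haveI := hiso; exact ⟨(asIso σ).symm⟩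
  by_contra hσ'
  have hM : ∀ _j : Fin s, PicF.IsInvertible N1 := fun _ => hN1
  have hneg := alt_cons_neg_of_section k hdim (A := fun _ : Fin s => TauNum.O1 i) (M := fun _ => N1)
    (fun _ => isAmple_O1 i) hM (fun _ => hAN) hL σ hσ hσ'
  have hd' : topologicalKrullDim ↥(CohB1.support (Coh.structureModule X)) ≤ (s + 1 : ℕ) :=
    (topologicalKrullDim_subspace_le X _).trans hdim.le
  have h := Big.alt_cons_tensor k hM QCoh.isCoh_structureModule' hL hL' hd'
  have h0 : Big.alt k (Fin.cons (CohB1.tensorMod L L') fun _ : Fin s => N1) (Coh.structureModule X) = 0 := by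
    rw [Big.alt_cons, sub_eq_zero]
    refine Big.alt_congr_cl k (fun _ => rfl) ?_
    rw [cl_tensor, cl_tensor, hLL, mul_one]
  have hint : (FGA.intNum k X (s + 1) (Matrix.vecCons L' fun _ : Fin s => N1) (Coh.structureModule X) : ℚ) ≤ 0 := by
    exact_mod_cast hdeg
  rw [Big.intNum_eq_alt k hdim.le (Fin.cases hL' hM) QCoh.isCoh_structureModule'] at hint
  change Big.alt k (Fin.cons L' fun _ : Fin s => N1) _ ≤ 0 at hint
  linarith

end Groth.Agent.NumTau
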