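import Groth.Agent.S19022
import Groth.Agent.TameLib.Semilocal
import Groth.Agent.H23.PicMul
import Groth.Agent.PicClLib.Basic

/-!
# Invertible modules on a scheme finite over a local ring
-/

set_option autoImplicit false
set_option linter.style.haveILetI false
set_option backward.isDefEq.respectTransparency false
set_option backward.isDefEq.respectTransparency.types false

universe u

open CategoryTheory CategoryTheory.Limits AlgebraicGeometry TopologicalSpace
open Groth.Agent.H23.PicMul

noncomputable section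

namespace Groth.Agent.NumTau

open Groth.Agent

theorem iso_structureModule_of_finite_local (R : Type u) [CommRing R] [IsLocalRing R] {Z : Scheme.{u}}
    (f : Z ⟶ Spec (CommRingCat.of R)) [IsFinite f] {L : Z.Modules} (hL : PicF.IsInvertible L) :
    Nonempty (L ≅ Coh.structureModule Z) := by
  classical
  haveI : IsAffine Z := isAffine_of_isAffineHom f
  let φ : R →+* Γ(Z, ⊤) := ((Scheme.ΓSpecIso (CommRingCat.of R)).inv ≫ f.appTop).hom
  letI : Algebra R Γ(Z, ⊤) := φ.toAlgebra
  have hfin : φ.Finite := by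
    have h1 : f.appTop.hom.Finite := IsFinite.finite_app f ⊤ (isAffineOpen_top _)
    exact h1.comp (RingHom.Finite.of_surjective _
      (Scheme.ΓSpecIso (CommRingCat.of R)).symm.commRingCatIsoToRingEquiv.surjective)
  haveI : Module.Finite R Γ(Z, ⊤) := hfin
  haveI : Finite (MaximalSpectrum Γ(Z, ⊤)) := TameLib.finite_maximalSpectrum R _
  let T : Set Z := {z | IsClosed ({z} : Set Z)}
  have hTfin : T.Finite := by
    let e := Z.isoSpec.hom.homeomorph
    have : T ⊆ e ⁻¹' (Set.range fun m : MaximalSpectrum Γ(Z, ⊤) => m.toPrimeSpectrum) := fun z hz => by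
      have h2 : IsClosed ({e z} : Set (Spec Γ(Z, ⊤))) := by
        rw [← Set.image_singleton]; exact e.isClosedMap _ hz
      exact ⟨⟨(e z).asIdeal, (PrimeSpectrum.isClosed_singleton_iff_isMaximal _).1 h2⟩, rfl⟩
    exact ((Set.finite_range _).preimage e.injective.injOn).subset this
  obtain ⟨U, -, hTU, ⟨i⟩⟩ := S19022.result Z L hL hTfin.toFinset (fun z hz => hTfin.mem_toFinset.1 hz)
    ⟨⊤, isAffineOpen_top Z, fun _ _ => trivial⟩
  have hU : U = ⊤ := by
    refine Opens.ext (Set.eq_univ_of_forall fun z => ?_)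
    obtain ⟨y, hy, hyc⟩ := (isClosed_closure (s := ({z} : Set Z))).exists_closed_singleton
      ⟨z, subset_closure rfl⟩
    exact (specializes_iff_mem_closure.2 hy).mem_open U.2 (hTU y (hTfin.mem_toFinset.2 hyc))
  subst hU
  have h1 : PicF.pullCl (⊤ : Z.Opens).ι (PicF.cl L) = 1 := by
    rw [← pullCl_one (⊤ : Z.Opens).ι, H23.PicMul.one_def]
    exact cl_eq_iff.2 ⟨((Scheme.Modules.restrictFunctorIsoPullback _).app L).symm ≪≫ i ≪≫
      ((PicClLib.nonempty_pullback_structureModule _).some).symm⟩
  have h2 := congrArg (PicF.pullCl Z.topIso.inv) h1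
  rw [PicClLib.pullCl_comp, pullCl_one, show Z.topIso.inv ≫ (⊤ : Z.Opens).ι = 𝟙 Z from Z.topIso.inv_hom_id,
    PicClLib.pullCl_id] at h2
  exact cl_eq_iff.1 (h2.trans H23.PicMul.one_def)

end Groth.Agent.NumTau
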